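import Groth.Agent.EtBCD5.Key

/-!
# Inverse images of complexes of étale sheaves
-/

set_option autoImplicit false
set_option linter.style.haveILetI false
set_option backward.isDefEq.respectTransparency false
set_option backward.isDefEq.respectTransparency.types false

universe u

open CategoryTheory CategoryTheory.Limits AlgebraicGeometry

attribute [local instance] HasDerivedCategory.standard
attribute [-instance] CategoryTheory.catToReflQuiver

noncomputable section

namespace Groth.Agent.EtBCD5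

instance preservesFiniteColimits_pull {X Y : Scheme.{u}} (g : X ⟶ Y) : PreservesFiniteColimits (EtCoh.pull g) :=
  haveI := (EtCoh.pullPushAdj g).leftAdjoint_preservesColimits
  inferInstance

theorem quasiIso_pullC {X Y : Scheme.{u}} (g : X ⟶ Y) [PreservesFiniteLimits (EtCoh.pull g)] {K L : Cx Y}
    (φ : K ⟶ L) [QuasiIso φ] : QuasiIso ((pullC g).map φ) := inferInstance

/-- the inverse image along a composite, on complexes -/
def pullCompC {X Y Z : Scheme.{u}} (k : X ⟶ Y) (e : Y ⟶ Z) (K : Cx Z) :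
    (pullC (k ≫ e)).obj K ≅ (pullC k).obj ((pullC e).obj K) :=
  HomologicalComplex.Hom.isoOfComponents (fun n => (EtCore.pullComp k e).app (K.X n))
    (fun _ _ _ => ((EtCore.pullComp k e).hom.naturality _).symm)

@[simp]
theorem pullCompC_hom_f {X Y Z : Scheme.{u}} (k : X ⟶ Y) (e : Y ⟶ Z) (K : Cx Z) (n : ℤ) :
    (pullCompC k e K).hom.f n = (EtCore.pullComp k e).hom.app (K.X n) := rfl

variable {X S X' S' S'' X'' : Scheme.{u}} (f : X ⟶ S) (g : S' ⟶ S) (f' : X' ⟶ S') (g' : X' ⟶ X)
  (w : g' ≫ f = f' ≫ g) (i : S'' ⟶ S') (f'' : X'' ⟶ S'') (k : X'' ⟶ X') (w' : k ≫ f' = f'' ≫ i)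
  (w'' : (k ≫ g') ≫ f = f'' ≫ (i ≫ g))

/-- vertical composition of base change morphisms on complexes -/
theorem bcC_vcomp (I : Cx X) {J : Cx X'} (s : (pullC g').obj I ⟶ J) {N : Cx X''} (t : (pullC k).obj J ⟶ N) :
    bcC f (i ≫ g) f'' (k ≫ g') w'' I ((pullCompC k g' I).hom ≫ (pullC k).map s ≫ t) =
      (pullCompC i g ((pushC f).obj I)).hom ≫ (pullC i).map (bcC f g f' g' w I s) ≫
        bcC f' i f'' k w' J t := by
  refine HomologicalComplex.hom_ext _ _ fun n => ?_
  show EtCoh.baseChange0 f (i ≫ g) f'' (k ≫ g') w'' (I.X n) ≫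
      (EtCoh.push f'').map ((EtCore.pullComp k g').hom.app (I.X n) ≫ (EtCoh.pull k).map (s.f n) ≫ t.f n) =
    (EtCore.pullComp i g).hom.app ((EtCoh.push f).obj (I.X n)) ≫
      (EtCoh.pull i).map (EtCoh.baseChange0 f g f' g' w (I.X n) ≫ (EtCoh.push f').map (s.f n)) ≫
        EtCoh.baseChange0 f' i f'' k w' (J.X n) ≫ (EtCoh.push f'').map (t.f n)
  rw [BcQCalc.baseChange0_vcomp f g f' g' w (I.X n) i f'' k w' w'']
  simp only [Functor.map_comp, Category.assoc]
  rw [← Functor.map_comp_assoc (EtCoh.push f'') ((EtCore.pullComp k g').inv.app (I.X n))]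
  simp only [Iso.inv_hom_id_app, CategoryTheory.Functor.map_id, Category.id_comp]
  refine congrArg (_ ≫ ·) (congrArg (_ ≫ ·) ?_)
  exact (BcQCalc.baseChange0_naturality_assoc f' i f'' k w' (s.f n) _).symm

end Groth.Agent.EtBCD5
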