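import Groth.Agent.EtBCD5.Single

/-!
# Cohomology sheaves of the derived base change morphism of a sheaf are the base change morphisms
-/

set_option autoImplicit false
set_option linter.style.haveILetI false
set_option backward.isDefEq.respectTransparency false
set_option backward.isDefEq.respectTransparency.types false

universe u

open CategoryTheory CategoryTheory.Limits AlgebraicGeometry HomologicalComplex

attribute [local instance] HasDerivedCategory.standard
attribute [-instance] CategoryTheory.catToReflQuiver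

noncomputable section

namespace Groth.Agent.EtBCD5

open BcQCalc

theorem homologyπ_mapHomologyIso {A B : Type*} [Category A] [Category B] [Abelian A] [Abelian B] (T : A ⥤ B)
    [T.Additive] (Sc : ShortComplex A) [T.PreservesLeftHomologyOf Sc] :
    (Sc.map T).homologyπ ≫ (Sc.mapHomologyIso T).hom = (Sc.mapCyclesIso T).hom ≫ T.map Sc.homologyπ := by
  rw [Sc.leftHomologyData.mapHomologyIso_eq T, Sc.leftHomologyData.mapCyclesIso_eq T, Iso.trans_hom,
    Iso.trans_hom, ShortComplex.LeftHomologyData.homologyπ_comp_homologyIso_hom_assoc, Category.assoc,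
    Functor.mapIso_hom, Functor.mapIso_hom, Iso.symm_hom, Iso.symm_hom, ← Functor.map_comp]
  refine congrArg (_ ≫ ·) ?_
  rw [ShortComplex.LeftHomologyData.map_π, ← Functor.map_comp]
  refine congrArg T.map ?_
  simp [ShortComplex.homologyπ, ShortComplex.LeftHomologyData.homologyIso, ShortComplex.LeftHomologyData.cyclesIso,
    ShortComplex.LeftHomologyData.leftHomologyIso, ShortComplex.leftHomologyπ]

variable {X S X' S' : Scheme.{u}} (f : X ⟶ S) (g : S' ⟶ S) (f' : X' ⟶ S') (g' : X' ⟶ X) (w : g' ≫ f = f' ≫ g)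
  [PreservesFiniteLimits (EtCoh.pull g)] [PreservesFiniteLimits (EtCoh.pull g')]
  [DCoh.HasRpushEt X f] [DCoh.HasRpushEt X' f'] [DCoh.HasRpushEt S' g]

/-- the cohomology sheaves of the derived base change morphism of a sheaf -/
theorem homology_single_bcQ_iff (adj : EtBC.pullD g ⊣ DCoh.RpushEt S' g) (F : EtCoh.Ab X)
    (q : ℕ) (P : MorphismProperty (EtCoh.Ab S')) [P.RespectsIso] :
    P ((DerivedCategory.homologyFunctor (EtCoh.Ab S') (q : ℤ)).map
        (EtBC.bcMap f g f' g' w adj (EtBC.single X F))) ↔ P (EtBC.bcQ f g f' g' w q F) := by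
  obtain ⟨φ, hφ, ψ, hψ, hx⟩ := exists_resComparison g' F
  let G := (EtCoh.pull g').obj F
  let R := injectiveResolution F
  let R' := injectiveResolution G
  haveI : ∀ j, Injective (R'.cocomplex.X j) := R'.injective
  refine (homology_single_iff f g f' g' w adj F R φ q P).trans (P.arrow_mk_iso_iff ?_)
  let C := (pushN f).obj R.cocomplex
  let C' := (pushN f').obj R'.cocomplex
  let a : ((pullN g).obj C).homology q ≅ (EtCoh.pull g).obj ((EtCoh.Rpush f q).obj F) :=
    (C.sc q).mapHomologyIso (EtCoh.pull g) ≪≫ (EtCoh.pull g).mapIso (R.isoRightDerivedObj (EtCoh.push f) q).symm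
  refine Arrow.isoMk a (R'.isoRightDerivedObj (EtCoh.push f') q).symm ?_
  show a.hom ≫ EtBC.bcQ f g f' g' w q F =
    homologyMap (bcCN f g f' g' w R.cocomplex φ) q ≫ (R'.isoRightDerivedObj (EtCoh.push f') q).inv
  rw [← cancel_epi (((pullN g).obj C).homologyπ q), homologyπ_naturality_assoc]
  have hπ : ((pullN g).obj C).homologyπ q ≫ ((C.sc q).mapHomologyIso (EtCoh.pull g)).hom =
      ((C.sc q).mapCyclesIso (EtCoh.pull g)).hom ≫ (EtCoh.pull g).map (C.homologyπ q) :=
    homologyπ_mapHomologyIso (EtCoh.pull g) (C.sc q)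
  have h1 : ((pullN g).obj C).homologyπ q ≫ a.hom =
      (((C.sc q).mapCyclesIso (EtCoh.pull g)).hom ≫ (EtCoh.pull g).map (RDer.cyclesComparison (EtCoh.push f) R.cocomplex q)) ≫
        (EtCoh.pull g).map (pic (EtCoh.push f) F q) := by
    simp only [a, Iso.trans_hom, Functor.mapIso_hom, Iso.symm_hom, reassoc_of% hπ, Category.assoc,
      ← Functor.map_comp]
    rw [cyclesComparison_pic]
  have h2 : C'.homologyπ q ≫ (R'.isoRightDerivedObj (EtCoh.push f') q).inv =
      RDer.cyclesComparison (EtCoh.push f') R'.cocomplex q ≫ pic (EtCoh.push f') G q :=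
    (cyclesComparison_pic _ G q).symm
  rw [reassoc_of% h1, bcQ_pic f g f' g' w F ψ hψ q, h2]
  refine (Category.assoc _ _ _).trans ?_
  refine Eq.trans ?_ (Category.assoc _ _ _)
  simp only [← Category.assoc]
  refine congrArg (· ≫ pic (EtCoh.push f') G q) ?_
  haveI : Mono ((tw G).i q) := inferInstance
  rw [← cancel_mono ((EtCoh.push f').map ((tw G).i q))]
  simp only [Category.assoc, ← Functor.map_comp]
  erw [← ψ.comm_i q]
  rw [Functor.map_comp]
  erw [← baseChange0_naturality_assoc f g f' g' w ((tw F).i q)]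
  rw [← hx]
  simp only [← Functor.map_comp_assoc]
  erw [RDer.cyclesComparison_i, RDer.cyclesComparison_i]
  rw [cyclesMap_i]
  have hi : ((C.sc q).mapCyclesIso (EtCoh.pull g)).hom ≫ (EtCoh.pull g).map (C.iCycles q) =
      ((pullN g).obj C).iCycles q := ShortComplex.LeftHomologyData.cyclesIso_hom_comp_i _
  exact (reassoc_of% hi) ((bcCN f g f' g' w R.cocomplex φ).f q)

end Groth.Agent.EtBCD5
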