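import Groth.Agent.EtBCD5.SysFun
import Groth.Agent.BcLim5.Main

/-!
# Colimits of systems commute with direct and inverse images
-/

set_option autoImplicit false
set_option linter.style.haveILetI false
set_option linter.unusedSectionVars false
set_option linter.unusedVariables false
set_option backward.isDefEq.respectTransparency false
set_option backward.isDefEq.respectTransparency.types false

universe u

open CategoryTheory CategoryTheory.Limits AlgebraicGeometry Opposite

attribute [-instance] CategoryTheory.catToReflQuiver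

noncomputable section

namespace Groth.Agent.EtBCD5

open EtLim8 BcLim5

attribute [local instance] preservesFiniteLimits_pull

variable {ι : Type u} [Preorder ι] [IsDirected ι (· ≤ ·)] [Nonempty ι] {Xs Ss Ts Ys : ιᵒᵖ ⥤ Scheme.{u}}

/-- the universal target of the colimit -/
abbrev colT (c : Cone Xs) (A : USys Xs) : Target A.S c := (A.S.diag c A.unital).target

theorem colT_natural (c : Cone Xs) {A B : USys Xs} (η : A ⟶ B) (i : ι) :
    η.app i ≫ (colT c B).g i = (colT c A).g i ≫ (EtCoh.push (pr c i)).map ((colimF c).map η) := by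
  show η.app i ≫ (B.S.diag c B.unital).target.g i = (A.S.diag c A.unital).target.g i ≫ _
  rw [diag_target_g B.unital, diag_target_g A.unital, ← Adjunction.homEquiv_naturality_left,
    ← Adjunction.homEquiv_naturality_right]
  exact congrArg ((EtCoh.pullPushAdj (pr c i)).homEquiv _ _) (colimit.ι_map (SysHom.diagMap η A.unital B.unital) i).symm

/-- maps out of the colimit are determined at the stages -/
theorem colimF_hom_ext (c : Cone Xs) (A : USys Xs) {Z : EtCoh.Ab c.pt} (η η' : (colimF c).obj A ⟶ Z)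
    (h : ∀ i, (colT c A).g i ≫ (EtCoh.push (pr c i)).map η = (colT c A).g i ≫ (EtCoh.push (pr c i)).map η') :
    η = η' :=
  (isCol_diag A.unital).ext η η' h

theorem pushed_mapTarget {cT : Cone Ts} {cS : Cone Ss} {g : cT.pt ⟶ cS.pt} (gN : Ts ⟶ Ss)
    (hg : ∀ i, pr cT i ≫ gN.app (op i) = g ≫ pr cS i) {S : Sys Ts} (T : Target S cT) {Z : EtCoh.Ab cT.pt}
    (η : T.G ⟶ Z) (i : ι) :
    (pushedTarget gN hg (mapTarget T η)).g i =
      (pushedTarget gN hg T).g i ≫ (EtCoh.push (pr cS i)).map ((EtCoh.push g).map η) := by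
  have e := pushL_natural (hg i) (𝟙 (S.F i)) η (T.g i) (T.g i ≫ (EtCoh.push (pr cT i)).map η) (Category.id_comp _)
  rw [CategoryTheory.Functor.map_id, Category.id_comp] at e
  exact e

theorem pulled_mapTarget {cX : Cone Xs} {cS : Cone Ss} {f : cX.pt ⟶ cS.pt} (fN : Xs ⟶ Ss)
    (hf : ∀ i, pr cX i ≫ fN.app (op i) = f ≫ pr cS i) {S : Sys Ss} (T : Target S cS) {Z : EtCoh.Ab cS.pt}
    (η : T.G ⟶ Z) (i : ι) :
    (pulledTarget fN hf (mapTarget T η)).g i =
      (pulledTarget fN hf T).g i ≫ (EtCoh.push (pr cX i)).map ((EtCoh.pull f).map η) := by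
  refine Compat.unique_unit (compat_pulledTarget fN hf (mapTarget T η) i) ?_ (hf i)
  have h := Compat.push_map (compat_pulledTarget fN hf T i) ((EtCoh.pull f).map η)
  have e : gamT (f := f) (mapTarget T η) i =
      gamT (f := f) T i ≫ (EtCoh.push (f ≫ pr cS i)).map ((EtCoh.pull f).map η) := by
    refine Compat.unique rfl (compat_gamT (mapTarget T η) i) ?_
    show Compat (T.g i ≫ (EtCoh.push (pr cS i)).map η) ((EtCoh.pullPushAdj f).unit.app Z) _
    rw [compat_map_left_iff]
    have h1 := Compat.push_map (compat_gamT (f := f) T i) ((EtCoh.pull f).map η)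
    rwa [(EtCoh.pullPushAdj f).unit_naturality η] at h1
  rw [e]
  exact h

theorem pulled_of_hom {cX : Cone Xs} {cS : Cone Ss} {f : cX.pt ⟶ cS.pt} (fN : Xs ⟶ Ss)
    (hf : ∀ i, pr cX i ≫ fN.app (op i) = f ≫ pr cS i) {S : Sys Ss} (T T' : Target S cS) (η : T.G ⟶ T'.G)
    (hη : ∀ i, T.g i ≫ (EtCoh.push (pr cS i)).map η = T'.g i) (i : ι) :
    (pulledTarget fN hf T').g i =
      (pulledTarget fN hf T).g i ≫ (EtCoh.push (pr cX i)).map ((EtCoh.pull f).map η) := by
  obtain ⟨G, g', hc⟩ := T'
  revert hη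
  change T.G ⟶ G at η
  intro hη
  obtain rfl : g' = fun i => T.g i ≫ (EtCoh.push (pr cS i)).map η := funext fun i => (hη i).symm
  exact pulled_mapTarget fN hf T η i

theorem pushed_of_hom {cT : Cone Ts} {cS : Cone Ss} {g : cT.pt ⟶ cS.pt} (gN : Ts ⟶ Ss)
    (hg : ∀ i, pr cT i ≫ gN.app (op i) = g ≫ pr cS i) {S : Sys Ts} (T T' : Target S cT) (η : T.G ⟶ T'.G)
    (hη : ∀ i, T.g i ≫ (EtCoh.push (pr cT i)).map η = T'.g i) (i : ι) :
    (pushedTarget gN hg T').g i =
      (pushedTarget gN hg T).g i ≫ (EtCoh.push (pr cS i)).map ((EtCoh.push g).map η) := by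
  obtain ⟨G, g', hc⟩ := T'
  revert hη
  change T.G ⟶ G at η
  intro hη
  obtain rfl : g' = fun i => T.g i ≫ (EtCoh.push (pr cT i)).map η := funext fun i => (hη i).symm
  exact pushed_mapTarget gN hg T η i

section pushed

variable (gN : Ts ⟶ Ss) {cT : Cone Ts} {cS : Cone Ss} {g : cT.pt ⟶ cS.pt}
  (hg : ∀ i, pr cT i ≫ gN.app (op i) = g ≫ pr cS i)

/-- the comparison for direct images -/
def pushCmpH : pushedF gN ⋙ colimF cS ⟶ colimF cT ⋙ EtCoh.push g where
  app A := descTarget (c := cS) (pushedObj gN A).unital (pushedTarget gN hg (colT cT A))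
  naturality A B η := colimF_hom_ext cS (pushedObj gN A) _ _ fun i => by
    show _ ≫ (EtCoh.push (pr cS i)).map ((colimF cS).map (pushedMap gN η) ≫ _) =
      _ ≫ (EtCoh.push (pr cS i)).map (_ ≫ (EtCoh.push g).map ((colimF cT).map η))
    rw [Functor.map_comp, Functor.map_comp, ← Category.assoc, ← colT_natural]
    refine (Category.assoc _ _ _).trans ((congrArg (_ ≫ ·)
      (target_g_descTarget (c := cS) (pushedObj gN B).unital (pushedTarget gN hg (colT cT B)) i)).trans ?_)
    refine Eq.trans ?_ ((congrArg (· ≫ _) (target_g_descTarget (c := cS) (pushedObj gN A).unital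
      (pushedTarget gN hg (colT cT A)) i)).symm.trans (Category.assoc _ _ _))
    exact pushL_natural (hg i) (η.app i) ((colimF cT).map η) _ _ (colT_natural cT η i)

theorem pushCmpH_g (A : USys Ts) (i : ι) :
    (colT cS (pushedObj gN A)).g i ≫ (EtCoh.push (pr cS i)).map ((pushCmpH gN hg).app A) =
      (pushedTarget gN hg (colT cT A)).g i :=
  target_g_descTarget (pushedObj gN A).unital _ i

variable (hqc : ∀ a, QuasiCompact (gN.app a)) (hqs : ∀ a, QuasiSeparated (gN.app a))
  [hAT : ∀ {a b : ιᵒᵖ} (h : a ⟶ b), IsAffineHom (Ts.map h)]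
  [hAS : ∀ {a b : ιᵒᵖ} (h : a ⟶ b), IsAffineHom (Ss.map h)] (hcT : IsLimit cT) (hcS : IsLimit cS)

include hqc hqs hcT hcS in
theorem isIso_pushCmpH (A : USys Ts) : IsIso ((pushCmpH gN hg).app A) :=
  isIso_of_isCol (isCol_diag (pushedObj gN A).unital) (isCol_pushed gN hg hqc hqs hcT hcS A.unital) _
    (pushCmpH_g gN hg A)

end pushed

section pulled

variable (fN : Xs ⟶ Ss) {cX : Cone Xs} {cS : Cone Ss} {f : cX.pt ⟶ cS.pt}
  (hf : ∀ i, pr cX i ≫ fN.app (op i) = f ≫ pr cS i)

/-- the comparison for inverse images -/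
def pullCmpH : pulledF fN ⋙ colimF cX ⟶ colimF cS ⋙ EtCoh.pull f where
  app A := descTarget (c := cX) (pulledObj fN A).unital (pulledTarget fN hf (colT cS A))
  naturality A B η := colimF_hom_ext cX (pulledObj fN A) _ _ fun i => by
    show _ ≫ (EtCoh.push (pr cX i)).map ((colimF cX).map (pulledMap fN η) ≫ _) =
      _ ≫ (EtCoh.push (pr cX i)).map (_ ≫ (EtCoh.pull f).map ((colimF cS).map η))
    rw [Functor.map_comp, Functor.map_comp, ← Category.assoc, ← colT_natural]
    refine (Category.assoc _ _ _).trans ((congrArg (_ ≫ ·)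
      (target_g_descTarget (c := cX) (pulledObj fN B).unital (pulledTarget fN hf (colT cS B)) i)).trans ?_)
    refine Eq.trans ?_ ((congrArg (· ≫ _) (target_g_descTarget (c := cX) (pulledObj fN A).unital
      (pulledTarget fN hf (colT cS A)) i)).symm.trans (Category.assoc _ _ _))
    rw [← pulled_mapTarget fN hf (colT cS A) ((colimF cS).map η) i, pulledMap_app]
    refine (Compat.unique_unit (compat_pulledTarget fN hf (mapTarget (colT cS A) ((colimF cS).map η)) i) ?_ (hf i)).symm
    rw [← compat_map_left_iff]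
    have e : uP fN A.S i ≫ (EtCoh.push (fN.app (op i))).map ((EtCoh.pull (fN.app (op i))).map (η.app i)) =
        η.app i ≫ uP fN B.S i := (EtCoh.pullPushAdj (fN.app (op i))).unit_naturality _
    refine e ▸ ?_
    have h1 := Compat.comp_left (compat_pulledTarget fN hf (colT cS B) i) (η.app i)
    have e2 : η.app i ≫ gamT (f := f) (colT cS B) i = gamT (f := f) (mapTarget (colT cS A) ((colimF cS).map η)) i := by
      refine Compat.unique rfl (Compat.comp_left (compat_gamT (colT cS B) i) (η.app i)) ?_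
      rw [colT_natural cS η i]
      exact compat_gamT (mapTarget (colT cS A) ((colimF cS).map η)) i
    rwa [e2] at h1

theorem pullCmpH_g (A : USys Ss) (i : ι) :
    (colT cX (pulledObj fN A)).g i ≫ (EtCoh.push (pr cX i)).map ((pullCmpH fN hf).app A) =
      (pulledTarget fN hf (colT cS A)).g i :=
  target_g_descTarget (pulledObj fN A).unital _ i

theorem isIso_pullCmpH (A : USys Ss) : IsIso ((pullCmpH fN hf).app A) :=
  isIso_of_isCol (isCol_diag (pulledObj fN A).unital) (isCol_pulledTarget fN hf (isCol_diag A.unital)) _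
    (pullCmpH_g fN hf A)

end pulled

section square

variable (fN : Xs ⟶ Ss) (gN : Ts ⟶ Ss) (hN : Ys ⟶ Xs) (eN : Ys ⟶ Ts)
  (sq : ∀ i : ι, eN.app (op i) ≫ gN.app (op i) = hN.app (op i) ≫ fN.app (op i))
  {cX : Cone Xs} {cS : Cone Ss} {cT : Cone Ts} {cY : Cone Ys}
  {f : cX.pt ⟶ cS.pt} {g : cT.pt ⟶ cS.pt} {h : cY.pt ⟶ cX.pt} {e : cY.pt ⟶ cT.pt}
  (hf : ∀ i, pr cX i ≫ fN.app (op i) = f ≫ pr cS i) (hg : ∀ i, pr cT i ≫ gN.app (op i) = g ≫ pr cS i)
  (hh : ∀ i, pr cY i ≫ hN.app (op i) = h ≫ pr cX i) (he : ∀ i, pr cY i ≫ eN.app (op i) = e ≫ pr cT i)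
  (w : e ≫ g = h ≫ f)

/-- base change at the limit is the colimit of base change at the stages -/
theorem colimF_bc (A : USys Ts) :
    (colimF cX).map (bcApp fN gN hN eN sq A) ≫ (pushCmpH hN hh).app (pulledObj eN A) ≫
        (EtCoh.push h).map ((pullCmpH eN he).app A) =
      (pullCmpH fN hf).app (pushedObj gN A) ≫ (EtCoh.pull f).map ((pushCmpH gN hg).app A) ≫
        EtCoh.baseChange0 g f h e w ((colimF cT).obj A) := by
  refine colimF_hom_ext cX (pulledObj fN (pushedObj gN A)) _ _ fun i => ?_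
  let T₀ := colT cT A
  have eL := pushed_of_hom hN hh (colT cY (pulledObj eN A)) (pulledTarget eN he T₀) ((pullCmpH eN he).app A)
    (pullCmpH_g eN he A) i
  have eR := pulled_of_hom fN hf (colT cS (pushedObj gN A)) (pushedTarget gN hg T₀) ((pushCmpH gN hg).app A)
    (pushCmpH_g gN hg A) i
  rw [Functor.map_comp, Functor.map_comp, Functor.map_comp, Functor.map_comp, ← Category.assoc, ← colT_natural]
  have hL := (Category.assoc _ _ _).symm.trans
    ((congrArg (· ≫ (EtCoh.push (pr cX i)).map ((EtCoh.push h).map ((pullCmpH eN he).app A)))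
      (pushCmpH_g hN hh (pulledObj eN A) i)).trans eL.symm)
  refine (Category.assoc _ _ _).trans ((congrArg (_ ≫ ·) hL).trans (Eq.trans ?_
    ((congrArg (· ≫ _) (pullCmpH_g fN hf (pushedObj gN A) i)).symm.trans (Category.assoc _ _ _))))
  refine Eq.trans ?_ ((congrArg (· ≫ _) eR).trans (Category.assoc _ _ _))
  show EtCoh.baseChange0 (gN.app (op i)) (fN.app (op i)) (hN.app (op i)) (eN.app (op i)) (sq i) (A.S.F i) ≫
    (pushedTarget hN hh (pulledTarget eN he T₀)).g i = _
  symm
  have w'' : (e ≫ pr cT i) ≫ gN.app (op i) = h ≫ f ≫ pr cS i := by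
    rw [Category.assoc, hg, ← Category.assoc, w, Category.assoc]
  let γ := pushL w'' (gamT (f := e) T₀ i)
  refine Compat.unique_unit (t₁ := fN.app (op i)) (t₂ := pr cX i) (γ := γ) ?_ ?_ (hf i)
  · have h1 := Compat.push_map (compat_pulledTarget fN hf (pushedTarget gN hg T₀) i)
      (EtCoh.baseChange0 g f h e w T₀.G)
    have h2 : Compat ((pushedTarget gN hg T₀).g i) (pushL w ((EtCoh.pullPushAdj e).unit.app T₀.G)) γ :=
      compat_pushL (hg i) w rfl w'' (compat_gamT T₀ i)
    have h3 := Compat.push_map (compat_gamT (f := f) (pushedTarget gN hg T₀) i)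
      (EtCoh.baseChange0 g f h e w T₀.G)
    rw [pushL_unit w T₀.G] at h2
    have e2 := Compat.unique (t₁ := pr cS i) (t₂ := f) rfl h2 h3
    rw [e2]
    exact h1
  · rw [← compat_map_left_iff]
    change Compat ((EtCoh.pullPushAdj (fN.app (op i))).unit.app _ ≫ (EtCoh.push (fN.app (op i))).map
      (EtCoh.baseChange0 (gN.app (op i)) (fN.app (op i)) (hN.app (op i)) (eN.app (op i)) (sq i) (A.S.F i))) _ _
    have c1 : Compat (pushL (sq i) (uP eN A.S i)) ((pushedTarget hN hh (pulledTarget eN he T₀)).g i) γ :=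
      compat_pushL (sq i) (hh i) (he i) w'' (compat_pulledTarget eN he T₀ i)
    rw [show uP eN A.S i = (EtCoh.pullPushAdj (eN.app (op i))).unit.app (A.S.F i) from rfl,
      pushL_unit (sq i) (A.S.F i)] at c1
    exact c1

end square

end Groth.Agent.EtBCD5
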