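import Groth.Agent.EtBCD5.Lim
import Groth.Agent.EtLim8.Const

/-!
# Complexes of systems pulled back from one stage
-/

set_option autoImplicit false
set_option linter.style.haveILetI false
set_option linter.unusedSectionVars false
set_option linter.unusedVariables false
set_option backward.isDefEq.respectTransparency false
set_option backward.isDefEq.respectTransparency.types false

universe u

open CategoryTheory CategoryTheory.Limits AlgebraicGeometry Opposite

attribute [local instance] HasDerivedCategory.standard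
attribute [-instance] CategoryTheory.catToReflQuiver

noncomputable section

namespace Groth.Agent.EtBCD5

open EtLim8 BcLim5

variable {ι : Type u} [Preorder ι] [IsDirected ι (· ≤ ·)] (Xs : ιᵒᵖ ⥤ Scheme.{u}) (i₀ : ι)

theorem pullCmp_natural {X Y Z : Scheme.{u}} (t₁ : Y ⟶ X) (t₂ : Z ⟶ Y) (t₃ : Z ⟶ X) (hw : t₂ ≫ t₁ = t₃)
    {F F' : EtCoh.Ab X} (η : F ⟶ F') :
    (EtCoh.pull t₂).map ((EtCoh.pull t₁).map η) ≫ (EtLim8.pullCmp t₁ t₂ t₃ hw F').hom =
      (EtLim8.pullCmp t₁ t₂ t₃ hw F).hom ≫ (EtCoh.pull t₃).map η :=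
  ((EtCore.pullComp t₂ t₁).symm ≪≫ EtCore.pullCongr hw).hom.naturality η

/-- the system pulled back from a stage, as a unital system -/
def constObj (F₀ : EtCoh.Ab (Xs.obj (op i₀))) : USys (iciFunctor i₀ ⋙ Xs) :=
  ⟨constSys Xs i₀ F₀, constSys_isUnital Xs i₀ F₀⟩

/-- morphisms of pulled back systems -/
def constMap {F F' : EtCoh.Ab (Xs.obj (op i₀))} (η : F ⟶ F') : constObj Xs i₀ F ⟶ constObj Xs i₀ F' :=
  USys.mkHom (fun j => (EtCoh.pull (tr Xs j.2)).map η) fun i j h => by
    show (EtCoh.pull (tr Xs i.2)).map η ≫ (EtCoh.pullPushAdj (tr Xs h)).homEquiv _ _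
        (EtLim8.pullCmp (tr Xs i.2) (tr Xs h) (tr Xs j.2) (tr_comp Xs i.2 h) F').hom =
      (EtCoh.pullPushAdj (tr Xs h)).homEquiv _ _
        (EtLim8.pullCmp (tr Xs i.2) (tr Xs h) (tr Xs j.2) (tr_comp Xs i.2 h) F).hom ≫
        (EtCoh.push (tr Xs h)).map ((EtCoh.pull (tr Xs j.2)).map η)
    rw [← Adjunction.homEquiv_naturality_left, ← Adjunction.homEquiv_naturality_right, pullCmp_natural]

/-- pulling back from a stage -/
def constF : EtCoh.Ab (Xs.obj (op i₀)) ⥤ USys (iciFunctor i₀ ⋙ Xs) where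
  obj F₀ := constObj Xs i₀ F₀
  map η := constMap Xs i₀ η
  map_id F := USys.hom_ext fun j => (EtCoh.pull (tr Xs j.2)).map_id _
  map_comp η θ := USys.hom_ext fun j => (EtCoh.pull (tr Xs j.2)).map_comp _ _

instance : (constF Xs i₀).Additive where
  map_add {F F' η θ} := USys.hom_ext (A := constObj Xs i₀ F) (B := constObj Xs i₀ F') fun j =>
    (EtCoh.pull (tr Xs j.2)).map_add (f := η) (g := θ)

variable {Xs} [Nonempty ι] (c : Cone Xs)

/-- the colimit of a pulled back system -/
def constColimIso : constF Xs i₀ ⋙ colimF (c.whisker (iciFunctor i₀)) ≅ EtCoh.pull (pr c i₀) :=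
  NatIso.ofComponents (fun F₀ => asIso (constColimHom i₀ F₀ c)) fun {F F'} η => by
    refine colimit.hom_ext fun j => ?_
    show colimit.ι _ j ≫ colimMap (SysHom.diagMap (constMap Xs i₀ η) _ _) ≫ constColimHom i₀ F' c =
      colimit.ι _ j ≫ constColimHom i₀ F c ≫ (EtCoh.pull (pr c i₀)).map η
    erw [colimit.ι_map_assoc]
    have h1 : colimit.ι ((constObj Xs i₀ F).S.diag (c.whisker (iciFunctor i₀)) (constObj Xs i₀ F).unital).G j ≫
        constColimHom i₀ F c = (constIso i₀ F c j).hom := Sys.ι_descColim _ _ _ _ j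
    have h2 : colimit.ι ((constObj Xs i₀ F').S.diag (c.whisker (iciFunctor i₀)) (constObj Xs i₀ F').unital).G j ≫
        constColimHom i₀ F' c = (constIso i₀ F' c j).hom := Sys.ι_descColim _ _ _ _ j
    refine (congrArg ((SysHom.diagMap (constMap Xs i₀ η) _ _).app j ≫ ·) h2).trans ?_
    refine Eq.trans ?_ ((congrArg (· ≫ (EtCoh.pull (pr c i₀)).map η) h1).symm.trans (Category.assoc _ _ _))
    exact pullCmp_natural (tr Xs j.2) (pr c j.1) (pr c i₀) (pr_tr c j.2) η

variable (L : Cx (Xs.obj (op i₀)))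

/-- a complex pulled back from a stage -/
abbrev constC : CxS (iciFunctor i₀ ⋙ Xs) := ((constF Xs i₀).mapHomologicalComplex (ComplexShape.up ℤ)).obj L

/-- the colimit of a complex pulled back from a stage -/
def constColimC :
    (colimC (c.whisker (iciFunctor i₀))).obj (constC i₀ L) ≅ (pullC (pr c i₀)).obj L :=
  HomologicalComplex.Hom.isoOfComponents (fun n => (constColimIso i₀ c).app (L.X n))
    (fun i j _ => ((constColimIso i₀ c).hom.naturality (L.d i j)).symm)

end Groth.Agent.EtBCD5
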