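import Groth.Prelude.Def_EtBCD
import Groth.Agent.H9Misc.GPDerived
import Groth.Agent.BcQCalc.VComp
import Groth.Agent.EtLim8.Coh

/-!
# The base change morphism of derived direct images on K-injective complexes
-/

set_option autoImplicit false
set_option linter.style.haveILetI false
set_option backward.isDefEq.respectTransparency false
set_option backward.isDefEq.respectTransparency.types false

universe u

open CategoryTheory CategoryTheory.Limits AlgebraicGeometry

attribute [local instance] HasDerivedCategory.standard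
attribute [-instance] CategoryTheory.catToReflQuiver

noncomputable section

namespace Groth.Agent.EtBCD5

/-- the homotopy category of complexes of abelian étale sheaves -/
abbrev KEt (X : Scheme.{u}) := HomotopyCategory (EtCoh.Ab X) (ComplexShape.up ℤ)

/-- inverse image on homotopy categories -/
abbrev pullH {X Y : Scheme.{u}} (g : X ⟶ Y) : KEt Y ⥤ KEt X :=
  (EtCoh.pull g).mapHomotopyCategory (ComplexShape.up ℤ)

/-- direct image on homotopy categories -/
abbrev pushH {X Y : Scheme.{u}} (g : X ⟶ Y) : KEt X ⥤ KEt Y :=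
  (EtCoh.push g).mapHomotopyCategory (ComplexShape.up ℤ)

/-- the unit of the derived direct image -/
abbrev rUnit {X Y : Scheme.{u}} (g : X ⟶ Y) [DCoh.HasRpushEt X g] (K : KEt X) :
    DerivedCategory.Qh.obj ((pushH g).obj K) ⟶ (DCoh.RpushEt X g).obj (DerivedCategory.Qh.obj K) :=
  ((DCoh.pushEtKh X g).totalRightDerivedUnit DerivedCategory.Qh
    (HomotopyCategory.quasiIso (EtCoh.Ab X) (ComplexShape.up ℤ))).app K

theorem isLeftAdjoint_Qh (X : Scheme.{u}) : (DerivedCategory.Qh (C := EtCoh.Ab X)).IsLeftAdjoint :=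
  H9Misc.GPDerived.qh_isLeftAdjoint (EtCoh.Ab X)

section adj

variable {S' S : Scheme.{u}} (g : S' ⟶ S) [DCoh.HasRpushEt S' g] [PreservesFiniteLimits (EtCoh.pull g)]

/-- the K-injective model -/
abbrev RB (X : Scheme.{u}) : DCoh.DEt X ⥤ KEt X :=
  haveI := isLeftAdjoint_Qh X
  (DerivedCategory.Qh (C := EtCoh.Ab X)).rightAdjoint

/-- the right adjoint of localization -/
def adjQ (X : Scheme.{u}) : DerivedCategory.Qh (C := EtCoh.Ab X) ⊣ RB X :=
  haveI := isLeftAdjoint_Qh X
  Adjunction.ofIsLeftAdjoint (DerivedCategory.Qh (C := EtCoh.Ab X))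

instance isRightDerived_model :
    (RB S' ⋙ DCoh.pushEtKh S' g).IsRightDerivedFunctor
      (Functor.whiskerRight (adjQ S').unit (DCoh.pushEtKh S' g) : DCoh.pushEtKh S' g ⟶
        DerivedCategory.Qh ⋙ RB S' ⋙ DCoh.pushEtKh S' g)
      (HomotopyCategory.quasiIso (EtCoh.Ab S') (ComplexShape.up ℤ)) :=
  TriCat.isRightDerivedFunctor_of_adjunction (adjQ S') _ _

/-- the derived direct image computed by K-injective complexes -/
def modelIso : RB S' ⋙ DCoh.pushEtKh S' g ≅ DCoh.RpushEt S' g :=
  Functor.rightDerivedUnique (RB S' ⋙ DCoh.pushEtKh S' g) (DCoh.RpushEt S' g) (Functor.whiskerRight (adjQ S').unit (DCoh.pushEtKh S' g) :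
      DCoh.pushEtKh S' g ⟶ DerivedCategory.Qh ⋙ RB S' ⋙ DCoh.pushEtKh S' g)
    ((DCoh.pushEtKh S' g).totalRightDerivedUnit DerivedCategory.Qh
      (HomotopyCategory.quasiIso (EtCoh.Ab S') (ComplexShape.up ℤ)))
    (HomotopyCategory.quasiIso (EtCoh.Ab S') (ComplexShape.up ℤ))

omit [PreservesFiniteLimits (EtCoh.pull g)] in
theorem rUnit_modelIso_inv (M : KEt S') :
    rUnit g M ≫ (modelIso g).inv.app (DerivedCategory.Qh.obj M) =
      DerivedCategory.Qh.map ((pushH g).map ((adjQ S').unit.app M)) := by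
  refine (Functor.rightDerivedNatTrans_app (DCoh.RpushEt S' g) (RB S' ⋙ DCoh.pushEtKh S' g) _ _
    (HomotopyCategory.quasiIso (EtCoh.Ab S') (ComplexShape.up ℤ)) _ M).trans ?_
  exact Category.id_comp _

/-- the canonical adjunction `g⁻¹ ⊣ Rg_*` -/
def adj₀ : EtBC.pullD g ⊣ DCoh.RpushEt S' g :=
  (H9Misc.AdjDescend.derivedAdj (EtCoh.pullPushAdj g) (adjQ S')).ofNatIsoRight
    (Functor.associator _ _ _ ≪≫ modelIso g)

/-- the counit on homotopy categories -/
abbrev counitH (M : KEt S') : (pullH g).obj ((pushH g).obj M) ⟶ M :=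
  (H9Misc.SerreDerived.adjHtpy (ComplexShape.up ℤ) (EtCoh.pullPushAdj g)).counit.app M

theorem counit_fac (M : KEt S') :
    (EtBC.pullD g).map (rUnit g M) ≫ (adj₀ g).counit.app (DerivedCategory.Qh.obj M) =
      (EtCoh.pull g).mapDerivedCategoryFactorsh.hom.app ((pushH g).obj M) ≫
        DerivedCategory.Qh.map (counitH g M) := by
  have h0 : (adj₀ g).counit.app (DerivedCategory.Qh.obj M) =
      (EtBC.pullD g).map ((modelIso g).inv.app (DerivedCategory.Qh.obj M)) ≫
        (EtCoh.pull g).mapDerivedCategoryFactorsh.hom.app ((pushH g).obj ((RB S').obj (DerivedCategory.Qh.obj M))) ≫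
          DerivedCategory.Qh.map (counitH g ((RB S').obj (DerivedCategory.Qh.obj M))) ≫
            (adjQ S').counit.app (DerivedCategory.Qh.obj M) := by
    simp [adj₀, Adjunction.ofNatIsoRight, H9Misc.AdjDescend.derivedAdj, H9Misc.AdjDescend.descend_counit_app,
      Adjunction.ofNatIsoLeft, Adjunction.comp_counit_app]
  rw [h0, ← Functor.map_comp_assoc, rUnit_modelIso_inv]
  erw [(EtCoh.pull g).mapDerivedCategoryFactorsh.hom.naturality_assoc]
  refine congrArg ((EtCoh.pull g).mapDerivedCategoryFactorsh.hom.app ((pushH g).obj M) ≫ ·) ?_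
  simp only [Functor.comp_map, ← Functor.map_comp_assoc]
  erw [(H9Misc.SerreDerived.adjHtpy (ComplexShape.up ℤ) (EtCoh.pullPushAdj g)).counit.naturality]
  simp only [Functor.id_map, Functor.map_comp, Category.assoc]
  erw [(adjQ S').left_triangle_components M]
  exact Category.comp_id _

end adj

section square

variable {X S X' S' : Scheme.{u}} (f : X ⟶ S) (g : S' ⟶ S) (f' : X' ⟶ S') (g' : X' ⟶ X) (w : g' ≫ f = f' ≫ g)

/-- the base change map in degree zero, as a natural transformation -/
def bc0Nat : EtCoh.push f ⋙ EtCoh.pull g ⟶ EtCoh.pull g' ⋙ EtCoh.push f' where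
  app F := EtCoh.baseChange0 f g f' g' w F
  naturality _ _ v := BcQCalc.baseChange0_naturality f g f' g' w v

/-- base change on complexes -/
def bc0C : (EtCoh.push f).mapHomologicalComplex (ComplexShape.up ℤ) ⋙ (EtCoh.pull g).mapHomologicalComplex _ ⟶
    (EtCoh.pull g').mapHomologicalComplex (ComplexShape.up ℤ) ⋙ (EtCoh.push f').mapHomologicalComplex _ where
  app K :=
    { f := fun i => EtCoh.baseChange0 f g f' g' w (K.X i)
      comm' := fun i j _ => (BcQCalc.baseChange0_naturality f g f' g' w (K.d i j)).symm }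
  naturality K L φ := by
    refine HomologicalComplex.hom_ext _ _ fun i => ?_
    exact BcQCalc.baseChange0_naturality f g f' g' w (φ.f i)

/-- base change on the homotopy category -/
abbrev bc0H (K : KEt X) : (pullH g).obj ((pushH f).obj K) ⟶ (pushH f').obj ((pullH g').obj K) :=
  (HomotopyCategory.quotient _ _).map ((bc0C f g f' g' w).app K.as)

theorem pullH_pushToPushPullH_counit (K : KEt X) :
    (pullH g).map ((EtBC.pushToPushPullH f g f' g' w).app K) ≫
      counitH g ((pushH f').obj ((pullH g').obj K)) = bc0H f g f' g' w K := by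
  obtain ⟨K⟩ := K
  simp only [EtBC.pushToPushPullH, NatTrans.comp_app, Functor.whiskerLeft_app]
  change (HomotopyCategory.quotient _ _).map _ ≫ (HomotopyCategory.quotient _ _).map _ = _
  rw [← Functor.map_comp]
  refine congrArg (HomotopyCategory.quotient _ _).map (HomologicalComplex.hom_ext _ _ fun i => ?_)
  show (EtCoh.pull g).map _ ≫ _ = EtCoh.baseChange0 f g f' g' w (K.X i)
  rw [EtCoh.baseChange0, Adjunction.homEquiv_counit]
  simp [EtBC.pushToPushPull]
  repeat erw [CategoryTheory.Functor.map_id]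
  repeat erw [Category.id_comp]

variable [PreservesFiniteLimits (EtCoh.pull g)] [PreservesFiniteLimits (EtCoh.pull g')]
  [DCoh.HasRpushEt X f] [DCoh.HasRpushEt X' f'] [DCoh.HasRpushEt S' g]

/-- the base change morphism on complexes -/
def bcCore (K : KEt X) : DerivedCategory.Qh.obj ((pullH g).obj ((pushH f).obj K)) ⟶
    (DCoh.RpushEt X' f').obj (DerivedCategory.Qh.obj ((pullH g').obj K)) :=
  DerivedCategory.Qh.map (bc0H f g f' g' w K) ≫ rUnit f' ((pullH g').obj K)

theorem pullD_rUnit_bcMap₀ (K : KEt X) :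
    (EtBC.pullD g).map (rUnit f K) ≫ EtBC.bcMap f g f' g' w (adj₀ g) (DerivedCategory.Qh.obj K) =
      (EtCoh.pull g).mapDerivedCategoryFactorsh.hom.app ((pushH f).obj K) ≫ bcCore f g f' g' w K ≫
        (DCoh.RpushEt X' f').map ((EtCoh.pull g').mapDerivedCategoryFactorsh.inv.app K) := by
  rw [EtBC.bcMap, Adjunction.homEquiv_counit, ← Functor.map_comp_assoc]
  have e : rUnit f K ≫ (EtBC.bcAdj f g f' g' w).app (DerivedCategory.Qh.obj K) =
      (EtBC.bcUnit f g f' g' w).app K :=
    Functor.rightDerived_fac_app (DCoh.RpushEt X f) _ _ _ _ K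
  rw [e]
  have e2 : (EtBC.bcUnit f g f' g' w).app K =
      DerivedCategory.Qh.map ((EtBC.pushToPushPullH f g f' g' w).app K) ≫
        rUnit g ((pushH f').obj ((pullH g').obj K)) ≫
          (DCoh.RpushEt S' g).map (rUnit f' ((pullH g').obj K) ≫
            (DCoh.RpushEt X' f').map ((EtCoh.pull g').mapDerivedCategoryFactorsh.inv.app K)) := by
    simp [EtBC.bcUnit]
  rw [e2, Functor.map_comp, Functor.map_comp, Category.assoc, Category.assoc]
  erw [(adj₀ g).counit.naturality (rUnit f' ((pullH g').obj K) ≫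
            (DCoh.RpushEt X' f').map ((EtCoh.pull g').mapDerivedCategoryFactorsh.inv.app K))]
  erw [reassoc_of% (counit_fac g ((pushH f').obj ((pullH g').obj K)))]
  erw [(EtCoh.pull g).mapDerivedCategoryFactorsh.hom.naturality_assoc]
  simp only [Functor.comp_map, Functor.id_map, ← Category.assoc]
  simp only [bcCore, Category.assoc, ← pullH_pushToPushPullH_counit f g f' g' w K, Functor.map_comp]

theorem bcMap_eq_comp (adj : EtBC.pullD g ⊣ DCoh.RpushEt S' g) (K : DCoh.DEt X) :
    EtBC.bcMap f g f' g' w adj K = (adj.leftAdjointUniq (adj₀ g)).hom.app _ ≫ EtBC.bcMap f g f' g' w (adj₀ g) K := by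
  rw [EtBC.bcMap, EtBC.bcMap, Equiv.symm_apply_eq, Adjunction.homEquiv_naturality_right,
    Adjunction.homEquiv_leftAdjointUniq_hom_app, ← Adjunction.homEquiv_unit, Equiv.apply_symm_apply]

/-- up to isomorphisms, the base change morphism is the one on complexes -/
theorem exists_iso_bcMap (adj : EtBC.pullD g ⊣ DCoh.RpushEt S' g) (K : KEt X) [IsIso (rUnit f K)] :
    Nonempty (Arrow.mk (EtBC.bcMap f g f' g' w adj (DerivedCategory.Qh.obj K)) ≅
      Arrow.mk (bcCore f g f' g' w K)) := by
  let a : (EtBC.pullD g).obj ((DCoh.RpushEt X f).obj (DerivedCategory.Qh.obj K)) ≅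
      DerivedCategory.Qh.obj ((pullH g).obj ((pushH f).obj K)) :=
    ((adj.leftAdjointUniq (adj₀ g)).app _) ≪≫ (EtBC.pullD g).mapIso (asIso (rUnit f K)).symm ≪≫
      (EtCoh.pull g).mapDerivedCategoryFactorsh.app _
  let b := (DCoh.RpushEt X' f').mapIso ((EtCoh.pull g').mapDerivedCategoryFactorsh.app K)
  refine ⟨Arrow.isoMk a b ?_⟩
  have e := pullD_rUnit_bcMap₀ f g f' g' w K
  have e' : EtBC.bcMap f g f' g' w (adj₀ g) (DerivedCategory.Qh.obj K) =
      (EtBC.pullD g).map (inv (rUnit f K)) ≫ (EtCoh.pull g).mapDerivedCategoryFactorsh.hom.app ((pushH f).obj K) ≫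
        bcCore f g f' g' w K ≫
        (DCoh.RpushEt X' f').map ((EtCoh.pull g').mapDerivedCategoryFactorsh.inv.app K) := by
    rw [← e, ← Functor.map_comp_assoc, IsIso.inv_hom_id, CategoryTheory.Functor.map_id, Category.id_comp]
  show a.hom ≫ bcCore f g f' g' w K = EtBC.bcMap f g f' g' w adj _ ≫ b.hom
  rw [bcMap_eq_comp f g f' g' w adj, e']
  simp [a, b]

end square

end Groth.Agent.EtBCD5
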