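import Groth.Agent.EtBCD5.Indep
import Groth.Agent.BcQCalc.EtaleBC
import Groth.Agent.EtAcycLib.Compose
import Groth.Agent.S0481

/-!
# Étale localisation of the derived base change morphism
-/

set_option autoImplicit false
set_option linter.style.haveILetI false
set_option backward.isDefEq.respectTransparency false
set_option backward.isDefEq.respectTransparency.types false

universe u

open CategoryTheory CategoryTheory.Limits AlgebraicGeometry

attribute [local instance] HasDerivedCategory.standard
attribute [-instance] CategoryTheory.catToReflQuiver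

noncomputable section

namespace Groth.Agent.EtBCD5

variable {X S X' S' : Scheme.{u}} (f : X ⟶ S) (g : S' ⟶ S) (f' : X' ⟶ S') (g' : X' ⟶ X)

theorem isKInjective_pullC_of_etale {Y U : Scheme.{u}} (j : U ⟶ Y) [AlgebraicGeometry.Etale j] (I : Cx Y)
    [hI : I.IsKInjective] : ((pullC j).obj I).IsKInjective := by
  haveI : EtShriek.JCont j := EtFound.jCont j
  haveI := EtFound.extZero_preservesFiniteLimits j
  let adj := (EtShriek.extZeroAdj j).ofNatIsoRight (EtLC12.AffineLocalAcyclic.restrIsoPull j)
  haveI := adj.leftAdjoint_preservesColimits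
  haveI := adj.left_adjoint_additive
  exact S0481.result (EtCoh.pull j) (EtShriek.extZero j) adj I hI

/-- base change along an étale morphism holds on complexes -/
theorem quasiIso_bcC_of_etale (c : IsPullback g' f' f g) [AlgebraicGeometry.Etale g] (I : Cx X) [I.IsKInjective]
    {A : Cx X'} [A.IsKInjective] (r : (pullC g').obj I ⟶ A) [QuasiIso r] :
    QuasiIso (bcC f g f' g' c.w I r) := by
  haveI : AlgebraicGeometry.Etale g' := MorphismProperty.of_isPullback c.flip ‹AlgebraicGeometry.Etale g›
  haveI := isKInjective_pullC_of_etale g' I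
  refine quasiIso_bcC_indep f g f' g' c.w I (𝟙 _) r ?_
  haveI : ∀ n, IsIso ((bcC f g f' g' c.w I (𝟙 _)).f n) := fun n => by
    haveI := BcQCalc.isIso_baseChange0_of_etale g f f' g' c (I.X n)
    rw [bcC_f]
    show IsIso (EtCoh.baseChange0 f g f' g' c.w (I.X n) ≫ (EtCoh.push f').map (𝟙 ((EtCoh.pull g').obj (I.X n))))
    rw [CategoryTheory.Functor.map_id, Category.comp_id]
    infer_instance
  haveI := HomologicalComplex.Hom.isIso_of_components (bcC f g f' g' c.w I (𝟙 _))
  infer_instance

theorem isIso_of_covers {X : Scheme.{u}} {A B : EtCoh.Ab X} (m : A ⟶ B) {ι : Type u} (U : ι → X.Etale)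
    (hU : EtCoh.Covers U) (h : ∀ i, IsIso ((EtCoh.pull (U i).hom).map m)) : IsIso m := by
  refine (EtFound.isIso_iff_stalks m).2 fun Ω _ _ η => ?_
  obtain ⟨i, x, hx⟩ := hU (η default)
  haveI : AlgebraicGeometry.Etale (U i).hom := (U i).prop
  obtain ⟨η', rfl, -⟩ := Scheme.exists_fac_of_etale_of_isSepClosed (U i).hom η x hx
  haveI := h i
  exact (NatIso.isIso_map_iff (EtFound.stalkPullIso (U i).hom η') m).1
    (inferInstanceAs (IsIso ((EtCoh.stalk η').map ((EtCoh.pull (U i).hom).map m))))

theorem quasiIso_of_covers {X : Scheme.{u}} {A B : Cx X} (m : A ⟶ B) {ι : Type u} (U : ι → X.Etale)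
    (hU : EtCoh.Covers U) (h : ∀ i, QuasiIso ((pullC (U i).hom).map m)) : QuasiIso m := by
  refine ⟨fun n => ?_⟩
  rw [quasiIsoAt_iff_isIso_homologyMap]
  refine isIso_of_covers _ U hU fun i => ?_
  haveI := EtLim8.preservesFiniteLimits_pull (U i).hom
  haveI := h i
  exact ((MorphismProperty.isomorphisms _).arrow_mk_iso_iff
    (Arrow.isoMk ((A.sc n).mapHomologyIso (EtCoh.pull (U i).hom)) ((B.sc n).mapHomologyIso (EtCoh.pull (U i).hom))
      (ShortComplex.mapHomologyIso_hom_naturality ((HomologicalComplex.shortComplexFunctor _ _ n).map m) (EtCoh.pull (U i).hom)).symm)).1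
    ((quasiIsoAt_iff_isIso_homologyMap _ n).1 ((h i).quasiIsoAt n))

end Groth.Agent.EtBCD5
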