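import Groth.Agent.EtBCD5.Pull

/-!
# Independence of the resolution in base change on complexes
-/

set_option autoImplicit false
set_option linter.style.haveILetI false
set_option backward.isDefEq.respectTransparency false
set_option backward.isDefEq.respectTransparency.types false

universe u

open CategoryTheory CategoryTheory.Limits AlgebraicGeometry

attribute [local instance] HasDerivedCategory.standard
attribute [-instance] CategoryTheory.catToReflQuiver

noncomputable section

namespace Groth.Agent.EtBCD5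

theorem isIso_Q_of_Qh {X : Scheme.{u}} {K L : Cx X} (φ : K ⟶ L)
    (h : IsIso (DerivedCategory.Qh.map ((HomotopyCategory.quotient _ _).map φ))) : QuasiIso φ :=
  (DerivedCategory.isIso_Q_map_iff_quasiIso (φ := φ)).1
    ((NatIso.isIso_map_iff (DerivedCategory.quotientCompQhIso _) φ).1 h)

/-- resolutions by K-injective complexes differ by a homotopy equivalence -/
theorem exists_iso_resolution {X : Scheme.{u}} {M A B : Cx X} [A.IsKInjective] [B.IsKInjective]
    (r : M ⟶ A) [QuasiIso r] (r' : M ⟶ B) [QuasiIso r'] :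
    ∃ φ : qH A ⟶ qH B, IsIso φ ∧
      (HomotopyCategory.quotient _ _).map r ≫ φ = (HomotopyCategory.quotient _ _).map r' := by
  haveI := isIso_Qh_quotient r
  haveI := isIso_Qh_quotient r'
  let σ := DerivedCategory.Qh.map ((HomotopyCategory.quotient _ _).map r)
  let σ' := DerivedCategory.Qh.map ((HomotopyCategory.quotient _ _).map r')
  obtain ⟨φ, hφ⟩ := (CochainComplex.IsKInjective.Qh_map_bijective (qH A) B).2 (inv σ ≫ σ')
  obtain ⟨ψ, hψ⟩ := (CochainComplex.IsKInjective.Qh_map_bijective (qH B) A).2 (inv σ' ≫ σ)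
  refine ⟨φ, ⟨ψ, (CochainComplex.IsKInjective.Qh_map_bijective _ A).1 ?_,
    (CochainComplex.IsKInjective.Qh_map_bijective _ B).1 ?_⟩,
    (CochainComplex.IsKInjective.Qh_map_bijective _ B).1 ?_⟩
  · rw [Functor.map_comp, hφ, hψ]; simp
  · rw [Functor.map_comp, hφ, hψ]; simp
  · rw [Functor.map_comp, hφ]; exact IsIso.hom_inv_id_assoc σ σ'

variable {X S X' S' : Scheme.{u}} (f : X ⟶ S) (g : S' ⟶ S) (f' : X' ⟶ S') (g' : X' ⟶ X) (w : g' ≫ f = f' ≫ g)

/-- independence of the resolution -/
theorem quasiIso_bcC_indep (I : Cx X) {A B : Cx X'} [A.IsKInjective] [B.IsKInjective]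
    (r : (pullC g').obj I ⟶ A) [QuasiIso r] (r' : (pullC g').obj I ⟶ B) [QuasiIso r']
    (h : QuasiIso (bcC f g f' g' w I r)) : QuasiIso (bcC f g f' g' w I r') := by
  obtain ⟨φ, hφ, e⟩ := exists_iso_resolution r r'
  haveI := hφ
  haveI := isIso_Qh_quotient (bcC f g f' g' w I r)
  refine isIso_Q_of_Qh _ ?_
  have e' : (HomotopyCategory.quotient _ _).map (bcC f g f' g' w I r') =
      (HomotopyCategory.quotient _ _).map (bcC f g f' g' w I r) ≫ (pushH f').map φ := by
    simp only [bcC, Functor.map_comp, Category.assoc]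
    refine congrArg (_ ≫ ·) ?_
    exact (congrArg (pushH f').map e.symm).trans ((pushH f').map_comp _ _)
  rw [e', Functor.map_comp]
  infer_instance

theorem quasiIso_bcC_congr {g₂ : S' ⟶ S} {g₂' : X' ⟶ X} (hg : g = g₂) (hg' : g' = g₂') (w₂ : g₂' ≫ f = f' ≫ g₂)
    (I : Cx X) {A B : Cx X'} [A.IsKInjective] [B.IsKInjective]
    (r : (pullC g').obj I ⟶ A) [QuasiIso r] (r' : (pullC g₂').obj I ⟶ B) [QuasiIso r']
    (h : QuasiIso (bcC f g f' g' w I r)) : QuasiIso (bcC f g₂ f' g₂' w₂ I r') := by
  subst hg hg'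
  exact quasiIso_bcC_indep f g f' g' w I r r' h

end Groth.Agent.EtBCD5
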