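import Groth.Agent.EtBCD5.Counit
import Mathlib.CategoryTheory.MorphismProperty.Basic

/-!
# The derived base change morphism computed on K-injective complexes
-/

set_option autoImplicit false
set_option linter.style.haveILetI false
set_option backward.isDefEq.respectTransparency false
set_option backward.isDefEq.respectTransparency.types false

universe u

open CategoryTheory CategoryTheory.Limits AlgebraicGeometry

attribute [local instance] HasDerivedCategory.standard
attribute [-instance] CategoryTheory.catToReflQuiver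

noncomputable section

namespace Groth.Agent.EtBCD5

/-- cochain complexes of abelian étale sheaves -/
abbrev Cx (X : Scheme.{u}) := CochainComplex (EtCoh.Ab X) ℤ

/-- the class of a complex in the homotopy category -/
abbrev qH {X : Scheme.{u}} (I : Cx X) : KEt X := (HomotopyCategory.quotient _ _).obj I

/-- inverse image of complexes -/
abbrev pullC {X Y : Scheme.{u}} (g : X ⟶ Y) : Cx Y ⥤ Cx X :=
  (EtCoh.pull g).mapHomologicalComplex (ComplexShape.up ℤ)

/-- direct image of complexes -/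
abbrev pushC {X Y : Scheme.{u}} (g : X ⟶ Y) : Cx X ⥤ Cx Y :=
  (EtCoh.push g).mapHomologicalComplex (ComplexShape.up ℤ)

theorem exists_kinj {X : Scheme.{u}} (K : Cx X) :
    ∃ (I : Cx X) (s : K ⟶ I), I.IsKInjective ∧ QuasiIso s :=
  H9Misc.GPDerived.exists_res K

theorem isIso_rUnit {X Y : Scheme.{u}} (g : X ⟶ Y) [DCoh.HasRpushEt X g] (I : Cx X) [I.IsKInjective] :
    IsIso (rUnit g (qH I)) := by
  haveI := TriCat.isIso_unit_of_isKInjective (adjQ X) I
  haveI : IsIso (rUnit g (qH I) ≫ (modelIso g).inv.app (DerivedCategory.Qh.obj (qH I))) := by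
    rw [rUnit_modelIso_inv]
    infer_instance
  exact IsIso.of_isIso_comp_right (rUnit g (qH I)) ((modelIso g).inv.app (DerivedCategory.Qh.obj (qH I)))

theorem isIso_Qh_quotient {X : Scheme.{u}} {K L : Cx X} (s : K ⟶ L) [QuasiIso s] :
    IsIso (DerivedCategory.Qh.map ((HomotopyCategory.quotient _ _).map s)) :=
  (NatIso.isIso_map_iff (DerivedCategory.quotientCompQhIso _) s).2
    ((DerivedCategory.isIso_Q_map_iff_quasiIso (φ := s)).2 inferInstance)

/-- every object of the derived category comes from a K-injective complex -/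
theorem exists_kinj_iso {X : Scheme.{u}} (K : DCoh.DEt X) :
    ∃ (I : Cx X), I.IsKInjective ∧ Nonempty (K ≅ DerivedCategory.Qh.obj (qH I)) := by
  obtain ⟨I, s, hI, hs⟩ := exists_kinj (DerivedCategory.Q.objPreimage K)
  haveI := isIso_Qh_quotient s
  exact ⟨I, hI, ⟨(DerivedCategory.Q.objObjPreimageIso K).symm ≪≫
    ((DerivedCategory.quotientCompQhIso _).app _).symm ≪≫
    asIso (DerivedCategory.Qh.map ((HomotopyCategory.quotient _ _).map s))⟩⟩

variable {X S X' S' : Scheme.{u}} (f : X ⟶ S) (g : S' ⟶ S) (f' : X' ⟶ S') (g' : X' ⟶ X) (w : g' ≫ f = f' ≫ g)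

/-- the base change morphism on complexes, through a resolution of the inverse image -/
def bcC (I : Cx X) {J : Cx X'} (s : (pullC g').obj I ⟶ J) :
    (pullC g).obj ((pushC f).obj I) ⟶ (pushC f').obj J :=
  (bc0C f g f' g' w).app I ≫ (pushC f').map s

theorem bcC_f (I : Cx X) {J : Cx X'} (s : (pullC g').obj I ⟶ J) (n : ℤ) :
    (bcC f g f' g' w I s).f n = EtCoh.baseChange0 f g f' g' w (I.X n) ≫ (EtCoh.push f').map (s.f n) := rfl

variable [PreservesFiniteLimits (EtCoh.pull g)] [PreservesFiniteLimits (EtCoh.pull g')]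
  [DCoh.HasRpushEt X f] [DCoh.HasRpushEt X' f'] [DCoh.HasRpushEt S' g]

/-- the base change morphism is natural -/
theorem exists_iso_bcMap_of_iso (adj : EtBC.pullD g ⊣ DCoh.RpushEt S' g) {K K' : DCoh.DEt X} (e : K ≅ K') :
    Nonempty (Arrow.mk (EtBC.bcMap f g f' g' w adj K) ≅ Arrow.mk (EtBC.bcMap f g f' g' w adj K')) := by
  refine ⟨Arrow.isoMk ((DCoh.RpushEt X f ⋙ EtBC.pullD g).mapIso e)
    ((EtBC.pullD g' ⋙ DCoh.RpushEt X' f').mapIso e) ?_⟩
  show (EtBC.pullD g).map ((DCoh.RpushEt X f).map e.hom) ≫ EtBC.bcMap f g f' g' w adj K' =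
    EtBC.bcMap f g f' g' w adj K ≫ (DCoh.RpushEt X' f').map ((EtBC.pullD g').map e.hom)
  rw [EtBC.bcMap, EtBC.bcMap, ← Adjunction.homEquiv_naturality_left_symm, ← Adjunction.homEquiv_naturality_right_symm]
  exact congrArg _ ((EtBC.bcAdj f g f' g' w).naturality e.hom)

/-- on a K-injective complex the base change morphism is the one on complexes -/
theorem exists_iso_Qmap (adj : EtBC.pullD g ⊣ DCoh.RpushEt S' g) (I : Cx X) [I.IsKInjective]
    {J : Cx X'} [J.IsKInjective] (s : (pullC g').obj I ⟶ J) [QuasiIso s] :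
    Nonempty (Arrow.mk (EtBC.bcMap f g f' g' w adj (DerivedCategory.Qh.obj (qH I))) ≅
      Arrow.mk (DerivedCategory.Q.map (bcC f g f' g' w I s))) := by
  haveI := isIso_rUnit f I
  haveI := isIso_rUnit f' J
  obtain ⟨e₁⟩ := exists_iso_bcMap f g f' g' w adj (qH I)
  let σ : DerivedCategory.Qh.obj (qH ((pullC g').obj I)) ⟶ DerivedCategory.Qh.obj (qH J) :=
    DerivedCategory.Qh.map ((HomotopyCategory.quotient _ _).map s)
  haveI : IsIso σ := isIso_Qh_quotient s
  let b : (DCoh.RpushEt X' f').obj (DerivedCategory.Qh.obj ((pullH g').obj (qH I))) ≅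
      DerivedCategory.Qh.obj (qH ((pushC f').obj J)) :=
    (DCoh.RpushEt X' f').mapIso (asIso σ) ≪≫ (asIso (rUnit f' (qH J))).symm
  let e₂ : Arrow.mk (bcCore f g f' g' w (qH I)) ≅
      Arrow.mk (DerivedCategory.Qh.map ((HomotopyCategory.quotient _ _).map (bcC f g f' g' w I s))) := by
    refine Arrow.isoMk (Iso.refl _) b ?_
    refine (Category.id_comp _).trans (Eq.symm ?_)
    have hn : rUnit f' ((pullH g').obj (qH I)) ≫ (DCoh.RpushEt X' f').map σ =
        DerivedCategory.Qh.map ((HomotopyCategory.quotient _ _).map ((pushC f').map s)) ≫ rUnit f' (qH J) :=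
      (((DCoh.pushEtKh X' f').totalRightDerivedUnit DerivedCategory.Qh
        (HomotopyCategory.quasiIso (EtCoh.Ab X') (ComplexShape.up ℤ))).naturality
          ((HomotopyCategory.quotient _ _).map s)).symm
    show (DerivedCategory.Qh.map _ ≫ rUnit f' _) ≫ (DCoh.RpushEt X' f').map σ ≫ inv (rUnit f' (qH J)) = _
    rw [Category.assoc]
    erw [reassoc_of% hn, IsIso.hom_inv_id, Category.comp_id]
    show _ = DerivedCategory.Qh.map ((HomotopyCategory.quotient _ _).map ((bc0C f g f' g' w).app I ≫ _))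
    rw [Functor.map_comp, Functor.map_comp]
    rfl
  exact ⟨e₁ ≪≫ e₂ ≪≫ Arrow.isoMk ((DerivedCategory.quotientCompQhIso _).app _)
    ((DerivedCategory.quotientCompQhIso _).app _)
    ((DerivedCategory.quotientCompQhIso _).hom.naturality (bcC f g f' g' w I s)).symm⟩

/-- the base change morphism of an object represented by a K-injective complex -/
theorem exists_iso_Qmap' (adj : EtBC.pullD g ⊣ DCoh.RpushEt S' g) {K : DCoh.DEt X} (I : Cx X) [I.IsKInjective]
    (e : K ≅ DerivedCategory.Qh.obj (qH I)) {J : Cx X'} [J.IsKInjective] (s : (pullC g').obj I ⟶ J) [QuasiIso s] :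
    Nonempty (Arrow.mk (EtBC.bcMap f g f' g' w adj K) ≅ Arrow.mk (DerivedCategory.Q.map (bcC f g f' g' w I s))) := by
  obtain ⟨e₁⟩ := exists_iso_bcMap_of_iso f g f' g' w adj e
  obtain ⟨e₂⟩ := exists_iso_Qmap f g f' g' w adj I s
  exact ⟨e₁ ≪≫ e₂⟩

theorem isIso_bcMap_iff (adj : EtBC.pullD g ⊣ DCoh.RpushEt S' g) {K : DCoh.DEt X} (I : Cx X) [I.IsKInjective]
    (e : K ≅ DerivedCategory.Qh.obj (qH I)) {J : Cx X'} [J.IsKInjective] (s : (pullC g').obj I ⟶ J) [QuasiIso s] :
    IsIso (EtBC.bcMap f g f' g' w adj K) ↔ QuasiIso (bcC f g f' g' w I s) := by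
  obtain ⟨e₁⟩ := exists_iso_Qmap' f g f' g' w adj I e s
  rw [← DerivedCategory.isIso_Q_map_iff_quasiIso]
  exact (MorphismProperty.isomorphisms _).arrow_mk_iso_iff e₁

/-- a property of morphisms transported along the homology of the base change morphism -/
theorem homology_bcMap_iff (adj : EtBC.pullD g ⊣ DCoh.RpushEt S' g) {K : DCoh.DEt X} (I : Cx X) [I.IsKInjective]
    (e : K ≅ DerivedCategory.Qh.obj (qH I)) {J : Cx X'} [J.IsKInjective] (s : (pullC g').obj I ⟶ J) [QuasiIso s]
    (q : ℤ) (P : MorphismProperty (EtCoh.Ab S')) [P.RespectsIso] :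
    P ((DerivedCategory.homologyFunctor (EtCoh.Ab S') q).map (EtBC.bcMap f g f' g' w adj K)) ↔
      P (HomologicalComplex.homologyMap (bcC f g f' g' w I s) q) := by
  obtain ⟨e₁⟩ := exists_iso_Qmap' f g f' g' w adj I e s
  exact P.arrow_mk_iso_iff ((DerivedCategory.homologyFunctor (EtCoh.Ab S') q).mapArrow.mapIso e₁ ≪≫
    Arrow.isoMk ((DerivedCategory.homologyFunctorFactors _ q).app _)
      ((DerivedCategory.homologyFunctorFactors _ q).app _)
      ((DerivedCategory.homologyFunctorFactors (EtCoh.Ab S') q).hom.naturality (bcC f g f' g' w I s)).symm)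

end Groth.Agent.EtBCD5
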