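import Groth.Agent.EtBCD5.Cmp
import Groth.Agent.EtBCD5.Indep
import Groth.Agent.TriCat.Adapted

/-!
# Derived base change at the limit
-/

set_option autoImplicit false
set_option linter.style.haveILetI false
set_option linter.unusedSectionVars false
set_option linter.unusedVariables false
set_option backward.isDefEq.respectTransparency false
set_option backward.isDefEq.respectTransparency.types false

universe u

open CategoryTheory CategoryTheory.Limits AlgebraicGeometry Opposite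

attribute [local instance] HasDerivedCategory.standard
attribute [-instance] CategoryTheory.catToReflQuiver

noncomputable section

namespace Groth.Agent.EtBCD5

open EtLim8 BcLim5

attribute [local instance] preservesFiniteLimits_pull

variable {ι : Type u} [Preorder ι] [IsDirected ι (· ≤ ·)] [Nonempty ι] {Xs Ss Ts Ys : ιᵒᵖ ⥤ Scheme.{u}}

/-- complexes of systems -/
abbrev CxS (Xs : ιᵒᵖ ⥤ Scheme.{u}) := CochainComplex (USys Xs) ℤ

/-- a stage of a complex of systems -/
abbrev stageC (i : ι) : CxS Xs ⥤ Cx (Xs.obj (op i)) :=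
  (USys.stage Xs i).mapHomologicalComplex (ComplexShape.up ℤ)

/-- the colimit of a complex of systems -/
abbrev colimC (c : Cone Xs) : CxS Xs ⥤ Cx c.pt := (colimF c).mapHomologicalComplex (ComplexShape.up ℤ)

theorem quasiIso_of_stages {A B : CxS Xs} (φ : A ⟶ B) (h : ∀ i, QuasiIso ((stageC i).map φ)) : QuasiIso φ := by
  refine ⟨fun n => ?_⟩
  rw [quasiIsoAt_iff_isIso_homologyMap]
  refine (USys.isIso_iff _).2 fun i => ?_
  haveI := h i
  exact ((MorphismProperty.isomorphisms _).arrow_mk_iso_iff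
    (Arrow.isoMk ((A.sc n).mapHomologyIso (USys.stage Xs i)) ((B.sc n).mapHomologyIso (USys.stage Xs i))
      (ShortComplex.mapHomologyIso_hom_naturality ((HomologicalComplex.shortComplexFunctor _ _ n).map φ) (USys.stage Xs i)).symm)).1
    ((quasiIsoAt_iff_isIso_homologyMap _ n).1 ((h i).quasiIsoAt n))

/-- resolutions by systems with injective stages -/
theorem exists_resolution (M : CxS Xs) (a : ℤ) [M.IsStrictlyGE a] :
    ∃ (I : CxS Xs) (r : M ⟶ I), I.IsStrictlyGE a ∧ (∀ n i, Injective ((I.X n).S.F i)) ∧ QuasiIso r := by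
  obtain ⟨I, r, h1, h2, -, h4⟩ := TriCat.exists_quasiIso_resolution
    (fun A : USys Xs => ∀ i, Injective (A.S.F i))
    ⟨_, isZero_zero _, fun i => IsZero.injective ((USys.stage Xs i).map_isZero (isZero_zero _))⟩
    USys.exists_mono_injective M a
  exact ⟨I, r, h1, h2, h4⟩

/-- injective resolutions of bounded below complexes of sheaves -/
theorem exists_injective_resolution {X : Scheme.{u}} (K : Cx X) (a : ℤ) [K.IsStrictlyGE a] :
    ∃ (I : Cx X) (t : K ⟶ I), I.IsStrictlyGE a ∧ (∀ n, Injective (I.X n)) ∧ (∀ n, Mono (t.f n)) ∧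
      QuasiIso t ∧ I.IsKInjective := by
  obtain ⟨I, t, h1, h2, h3, h4⟩ := TriCat.exists_quasiIso_resolution (fun G : EtCoh.Ab X => Injective G)
    ⟨_, isZero_zero _, IsZero.injective (isZero_zero _)⟩
    (fun G => ⟨Injective.under G, Injective.ι G, inferInstance, inferInstance⟩) K a
  haveI := h1
  haveI := h2
  exact ⟨I, t, h1, h2, h3, h4, CochainComplex.isKInjective_of_injective I a⟩

theorem isAdapted_push (gN : Ts ⟶ Ss) {cT : Cone Ts} {cS : Cone Ss} {g : cT.pt ⟶ cS.pt}
    (hg : ∀ i, pr cT i ≫ gN.app (op i) = g ≫ pr cS i)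
    (hqc : ∀ a, QuasiCompact (gN.app a)) (hqs : ∀ a, QuasiSeparated (gN.app a))
    [hAT : ∀ {a b : ιᵒᵖ} (h : a ⟶ b), IsAffineHom (Ts.map h)]
    [hAS : ∀ {a b : ιᵒᵖ} (h : a ⟶ b), IsAffineHom (Ss.map h)] (hcT : IsLimit cT) (hcS : IsLimit cS) :
    TriCat.IsAdapted (EtCoh.push g) (IsLimAcyclic cT) :=
  open ZeroObject in
  haveI : Injective (0 : EtCoh.Ab cT.pt) := IsZero.injective (isZero_zero _)
  TriCat.IsAdapted.of_nonempty ⟨(0 : EtCoh.Ab cT.pt), isLimAcyclic_of_injective _⟩
    fun S hS h1 h2 => ⟨lim_isLimAcyclic_X₃ hcT S hS h1 h2,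
      haveI := epi_push_map_of_isLimAcyclic gN hg hqc hqs hcT hcS S hS h1
      haveI : Mono ((S.map (EtCoh.push g)).f) := (haveI := hS.mono_f; inferInstanceAs (Mono ((EtCoh.push g).map S.f)))
      haveI : Epi ((S.map (EtCoh.push g)).g) := inferInstanceAs (Epi ((EtCoh.push g).map S.g))
      { exact := hS.exact.map_of_mono_of_preservesKernel (EtCoh.push g) hS.mono_f inferInstance }⟩

variable (fN : Xs ⟶ Ss) (gN : Ts ⟶ Ss) (hN : Ys ⟶ Xs) (eN : Ys ⟶ Ts)
  (sq : ∀ i : ι, eN.app (op i) ≫ gN.app (op i) = hN.app (op i) ≫ fN.app (op i))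

/-- base change on complexes of systems -/
def bcS (I : CxS Ts) {J : CxS Ys} (s : ((pulledF eN).mapHomologicalComplex _).obj I ⟶ J) :
    ((pulledF fN).mapHomologicalComplex (ComplexShape.up ℤ)).obj
        (((pushedF gN).mapHomologicalComplex (ComplexShape.up ℤ)).obj I) ⟶
      ((pushedF hN).mapHomologicalComplex (ComplexShape.up ℤ)).obj J where
  f n := (bcF fN gN hN eN sq).app (I.X n) ≫ (pushedF hN).map (s.f n)
  comm' i j _ := by
    show (_ ≫ _) ≫ (pushedF hN).map (J.d i j) = (pulledF fN).map ((pushedF gN).map (I.d i j)) ≫ _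
    rw [Category.assoc, ← Functor.map_comp, s.comm, Functor.map_comp, ← Category.assoc, ← Category.assoc]
    exact congrArg (· ≫ _) ((bcF fN gN hN eN sq).naturality (I.d i j)).symm

variable {cX : Cone Xs} {cS : Cone Ss} {cT : Cone Ts} {cY : Cone Ys}
  {f : cX.pt ⟶ cS.pt} {g : cT.pt ⟶ cS.pt} {h : cY.pt ⟶ cX.pt} {e : cY.pt ⟶ cT.pt}
  (hf : ∀ i, pr cX i ≫ fN.app (op i) = f ≫ pr cS i) (hg : ∀ i, pr cT i ≫ gN.app (op i) = g ≫ pr cS i)
  (hh : ∀ i, pr cY i ≫ hN.app (op i) = h ≫ pr cX i) (he : ∀ i, pr cY i ≫ eN.app (op i) = e ≫ pr cT i)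
  (w : e ≫ g = h ≫ f)
  (hqc : ∀ a, QuasiCompact (gN.app a)) (hqs : ∀ a, QuasiSeparated (gN.app a))
  (hqc' : ∀ a, QuasiCompact (hN.app a)) (hqs' : ∀ a, QuasiSeparated (hN.app a))
  [hAT : ∀ {a b : ιᵒᵖ} (h : a ⟶ b), IsAffineHom (Ts.map h)]
  [hAS : ∀ {a b : ιᵒᵖ} (h : a ⟶ b), IsAffineHom (Ss.map h)]
  [hAX : ∀ {a b : ιᵒᵖ} (h : a ⟶ b), IsAffineHom (Xs.map h)]
  [hAY : ∀ {a b : ιᵒᵖ} (h : a ⟶ b), IsAffineHom (Ys.map h)]
  (hcX : IsLimit cX) (hcS : IsLimit cS) (hcT : IsLimit cT) (hcY : IsLimit cY)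

include hf hg hh he w hqc hqs hqc' hqs' hcX hcS hcT hcY

/-- base change of complexes of systems at the limit -/
theorem quasiIso_bcC_colim (I : CxS Ts) {J : CxS Ys}
    (s : ((pulledF eN).mapHomologicalComplex _).obj I ⟶ J) [QuasiIso s]
    (hst : ∀ i, QuasiIso ((stageC i).map (bcS fN gN hN eN sq I s))) :
    ∃ s₀ : (pullC e).obj ((colimC cT).obj I) ⟶ (colimC cY).obj J,
      QuasiIso s₀ ∧ QuasiIso (bcC g f h e w ((colimC cT).obj I) s₀) := by
  haveI := fun n => isIso_pullCmpH eN he (I.X n)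
  haveI : ∀ A, IsIso ((pushCmpH gN hg).app A) := isIso_pushCmpH gN hg hqc hqs hcT hcS
  haveI : ∀ A, IsIso ((pushCmpH hN hh).app A) := isIso_pushCmpH hN hh hqc' hqs' hcY hcX
  haveI := fun A => isIso_pullCmpH fN hf A
  let α : (colimC cY).obj (((pulledF eN).mapHomologicalComplex _).obj I) ≅ (pullC e).obj ((colimC cT).obj I) :=
    HomologicalComplex.Hom.isoOfComponents (fun n => asIso ((pullCmpH eN he).app (I.X n)))
      (fun i j _ => ((pullCmpH eN he).naturality (I.d i j)).symm)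
  let s₀ := α.inv ≫ (colimC cY).map s
  refine ⟨s₀, inferInstance, ?_⟩
  let β : (colimC cX).obj (((pulledF fN).mapHomologicalComplex (ComplexShape.up ℤ)).obj
      (((pushedF gN).mapHomologicalComplex (ComplexShape.up ℤ)).obj I)) ≅
      (pullC f).obj ((pushC g).obj ((colimC cT).obj I)) :=
    HomologicalComplex.Hom.isoOfComponents (fun n => asIso ((pullCmpH fN hf).app ((pushedF gN).obj (I.X n))) ≪≫
        (EtCoh.pull f).mapIso (asIso ((pushCmpH gN hg).app (I.X n))))
      (fun i j _ => by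
        show (_ ≫ _) ≫ (EtCoh.pull f).map ((EtCoh.push g).map ((colimF cT).map (I.d i j))) =
          (colimF cX).map ((pulledF fN).map ((pushedF gN).map (I.d i j))) ≫ _ ≫ _
        erw [Category.assoc, ← Functor.map_comp, ← (pushCmpH gN hg).naturality (I.d i j), Functor.map_comp,
          ← Category.assoc, ← (pullCmpH fN hf).naturality ((pushedF gN).map (I.d i j))]
        exact Category.assoc _ _ _)
  let γ : (colimC cX).obj (((pushedF hN).mapHomologicalComplex (ComplexShape.up ℤ)).obj J) ≅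
      (pushC h).obj ((colimC cY).obj J) :=
    HomologicalComplex.Hom.isoOfComponents (fun n => asIso ((pushCmpH hN hh).app (J.X n)))
      (fun i j _ => ((pushCmpH hN hh).naturality (J.d i j)).symm)
  have key : (colimC cX).map (bcS fN gN hN eN sq I s) ≫ γ.hom =
      β.hom ≫ bcC g f h e w ((colimC cT).obj I) s₀ := by
    refine HomologicalComplex.hom_ext _ _ fun n => ?_
    show (colimF cX).map (bcApp fN gN hN eN sq (I.X n) ≫ (pushedF hN).map (s.f n)) ≫ (pushCmpH hN hh).app (J.X n) =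
      ((pullCmpH fN hf).app (pushedObj gN (I.X n)) ≫ (EtCoh.pull f).map ((pushCmpH gN hg).app (I.X n))) ≫
        EtCoh.baseChange0 g f h e w ((colimF cT).obj (I.X n)) ≫
          (EtCoh.push h).map (inv ((pullCmpH eN he).app (I.X n)) ≫ (colimF cY).map (s.f n))
    rw [Functor.map_comp, Category.assoc]
    erw [(pushCmpH hN hh).naturality (s.f n)]
    simp only [Category.assoc]
    rw [← reassoc_of% (colimF_bc fN gN hN eN sq hf hg hh he w (I.X n))]
    refine congrArg (_ ≫ ·) (congrArg (_ ≫ ·) ?_)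
    show (EtCoh.push h).map ((colimF cY).map (s.f n)) = _
    rw [← Functor.map_comp]
    erw [IsIso.hom_inv_id_assoc]
  haveI := quasiIso_of_stages _ hst
  have hq : QuasiIso ((colimC cX).map (bcS fN gN hN eN sq I s) ≫ γ.hom) := inferInstance
  rw [key] at hq
  exact (quasiIso_iff_comp_left β.hom _).1 hq

/-- base change isomorphisms for bounded below complexes pass to the limit -/
theorem isIso_bcMap_colim [∀ a, DCoh.HasRpushEt (Ts.obj a) (gN.app a)] [∀ a, DCoh.HasRpushEt (Ys.obj a) (hN.app a)]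
    [∀ a, DCoh.HasRpushEt (Xs.obj a) (fN.app a)]
    [hle : ∀ a, PreservesFiniteLimits (EtCoh.pull (eN.app a))] [hlf : ∀ a, PreservesFiniteLimits (EtCoh.pull (fN.app a))]
    [hl : PreservesFiniteLimits (EtCoh.pull e)] [hl' : PreservesFiniteLimits (EtCoh.pull f)]
    [DCoh.HasRpushEt cT.pt g] [DCoh.HasRpushEt cY.pt h] [DCoh.HasRpushEt cX.pt f]
    (adjs : ∀ a, EtBC.pullD (fN.app a) ⊣ DCoh.RpushEt (Xs.obj a) (fN.app a))
    (adj : EtBC.pullD f ⊣ DCoh.RpushEt cX.pt f) (M : CxS Ts) (a : ℤ) [M.IsStrictlyGE a]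
    (hstage : ∀ i, IsIso (EtBC.bcMap (gN.app (op i)) (fN.app (op i)) (hN.app (op i)) (eN.app (op i)) (sq i)
      (adjs (op i)) (DerivedCategory.Q.obj ((stageC i).obj M)))) :
    IsIso (EtBC.bcMap g f h e w adj (DerivedCategory.Q.obj ((colimC cT).obj M))) := by
  obtain ⟨I, r, hI, hIi, hr⟩ := exists_resolution M a
  obtain ⟨J, s, hJ, hJi, hs⟩ := exists_resolution (((pulledF eN).mapHomologicalComplex _).obj I) a
  have hst : ∀ i, QuasiIso ((stageC i).map (bcS fN gN hN eN sq I s)) := fun i => by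
    haveI : ∀ n, Injective (((stageC i).obj I).X n) := fun n => hIi n i
    haveI : ∀ n, Injective (((stageC i).obj J).X n) := fun n => hJi n i
    haveI : ((stageC i).obj I).IsKInjective := CochainComplex.isKInjective_of_injective _ a
    haveI : ((stageC i).obj J).IsKInjective := CochainComplex.isKInjective_of_injective _ a
    haveI : QuasiIso ((stageC i).map s) := inferInstance
    haveI : IsIso (DerivedCategory.Q.map ((stageC i).map r)) :=
      (DerivedCategory.isIso_Q_map_iff_quasiIso (φ := (stageC i).map r)).2 inferInstance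
    exact (isIso_bcMap_iff (gN.app (op i)) (fN.app (op i)) (hN.app (op i)) (eN.app (op i)) (sq i) (adjs (op i))
      ((stageC i).obj I) (asIso (DerivedCategory.Q.map ((stageC i).map r)) ≪≫
        ((DerivedCategory.quotientCompQhIso _).app _).symm) ((stageC i).map s)).1 (hstage i)
  obtain ⟨s₀, hs₀, hq⟩ := quasiIso_bcC_colim fN gN hN eN sq hf hg hh he w hqc hqs hqc' hqs' hcX hcS hcT hcY I s hst
  obtain ⟨I₁, t, hI₁, hI₁i, hIt, ht, hI₁K⟩ := exists_injective_resolution ((colimC cT).obj I) a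
  obtain ⟨J₁, t', hJ₁, hJ₁i, hJt, ht', hJ₁K⟩ := exists_injective_resolution ((colimC cY).obj J) a
  obtain ⟨J₂, s₁, hJ₂, hJ₂i, -, hs₁, hJ₂K⟩ := exists_injective_resolution ((pullC e).obj I₁) a
  haveI : QuasiIso ((pushC g).map t) := TriCat.quasiIso_map_of_adapted (isAdapted_push gN hg hqc hqs hcT hcS) t hIt a
    (fun n => isLimAcyclic_of_injective_sys (T := colT cT (I.X n)) (I.X n).unital hcT (Diag.isColim _) (hIi n))
    (fun n => haveI := hI₁i n; isLimAcyclic_of_injective _)
  haveI : QuasiIso ((pushC h).map t') := TriCat.quasiIso_map_of_adapted (isAdapted_push hN hh hqc' hqs' hcY hcX) t' hJt a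
    (fun n => isLimAcyclic_of_injective_sys (T := colT cY (J.X n)) (J.X n).unital hcY (Diag.isColim _) (hJi n))
    (fun n => haveI := hJ₁i n; isLimAcyclic_of_injective _)
  haveI : QuasiIso ((pullC e).map t) := quasiIso_pullC e t
  have q₁ : QuasiIso (bcC g f h e w ((colimC cT).obj I) (s₀ ≫ t')) := by
    have : bcC g f h e w ((colimC cT).obj I) (s₀ ≫ t') =
        bcC g f h e w ((colimC cT).obj I) s₀ ≫ (pushC h).map t' := by
      simp [bcC]
    rw [this]
    infer_instance
  have q₂ := quasiIso_bcC_indep g f h e w ((colimC cT).obj I) (s₀ ≫ t') ((pullC e).map t ≫ s₁) q₁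
  have e₂ : bcC g f h e w ((colimC cT).obj I) ((pullC e).map t ≫ s₁) =
      (pullC f).map ((pushC g).map t) ≫ bcC g f h e w I₁ s₁ := by
    rw [bcC, bcC, Functor.map_comp, ← Category.assoc, ← Category.assoc]
    exact congrArg (· ≫ _) ((bc0C g f h e w).naturality t).symm
  rw [e₂] at q₂
  haveI : QuasiIso ((pullC f).map ((pushC g).map t)) := quasiIso_pullC f _
  have q₃ := (quasiIso_iff_comp_left ((pullC f).map ((pushC g).map t)) _).1 q₂
  haveI : QuasiIso ((colimC cT).map r ≫ t) := inferInstance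
  haveI : IsIso (DerivedCategory.Q.map ((colimC cT).map r ≫ t)) :=
    (DerivedCategory.isIso_Q_map_iff_quasiIso (φ := (colimC cT).map r ≫ t)).2 inferInstance
  exact (isIso_bcMap_iff g f h e w adj I₁ (asIso (DerivedCategory.Q.map ((colimC cT).map r ≫ t)) ≪≫
    ((DerivedCategory.quotientCompQhIso _).app _).symm) s₁).2 q₃

end Groth.Agent.EtBCD5
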