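import Groth.Agent.EtBCD5.Pull
import Groth.Agent.TriCat.MapExtend
import Mathlib.CategoryTheory.Abelian.Injective.Extend
import Mathlib.Algebra.Homology.Embedding.ExtendHomology

/-!
# The derived base change morphism of a single sheaf and the base change morphisms in each degree
-/

set_option autoImplicit false
set_option linter.style.haveILetI false
set_option backward.isDefEq.respectTransparency false
set_option backward.isDefEq.respectTransparency.types false

universe u

open CategoryTheory CategoryTheory.Limits AlgebraicGeometry HomologicalComplex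

attribute [local instance] HasDerivedCategory.standard
attribute [-instance] CategoryTheory.catToReflQuiver

noncomputable section

namespace Groth.Agent.EtBCD5

open BcQCalc

/-- complexes indexed by natural numbers -/
abbrev CxN (X : Scheme.{u}) := CochainComplex (EtCoh.Ab X) ℕ

/-- inverse image -/
abbrev pullN {X Y : Scheme.{u}} (g : X ⟶ Y) : CxN Y ⥤ CxN X :=
  (EtCoh.pull g).mapHomologicalComplex (ComplexShape.up ℕ)

/-- direct image -/
abbrev pushN {X Y : Scheme.{u}} (g : X ⟶ Y) : CxN X ⥤ CxN Y :=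
  (EtCoh.push g).mapHomologicalComplex (ComplexShape.up ℕ)

variable {X S X' S' : Scheme.{u}} (f : X ⟶ S) (g : S' ⟶ S) (f' : X' ⟶ S') (g' : X' ⟶ X) (w : g' ≫ f = f' ≫ g)

/-- base change on complexes indexed by natural numbers -/
def bcCN (K : CxN X) {L : CxN X'} (s : (pullN g').obj K ⟶ L) :
    (pullN g).obj ((pushN f).obj K) ⟶ (pushN f').obj L where
  f j := EtCoh.baseChange0 f g f' g' w (K.X j) ≫ (EtCoh.push f').map (s.f j)
  comm' i j _ := by
    show (_ ≫ _) ≫ (EtCoh.push f').map (L.d i j) = (EtCoh.pull g).map ((EtCoh.push f).map (K.d i j)) ≫ _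
    rw [baseChange0_naturality_assoc, Category.assoc, ← Functor.map_comp, ← Functor.map_comp]
    exact congrArg (fun r => _ ≫ (EtCoh.push f').map r) (s.comm i j)

/-- extension by zero -/
abbrev ext0 {Y : Scheme.{u}} (K : CxN Y) : Cx Y := K.extend ComplexShape.embeddingUpNat

/-- the extension of a comparison map -/
def extS {K : CxN X} {L : CxN X'} (s : (pullN g').obj K ⟶ L) : (pullC g').obj (ext0 K) ⟶ ext0 L :=
  (TriCat.mapExtendIso (EtCoh.pull g') ComplexShape.embeddingUpNat K).hom ≫ extendMap s _

/-- the two extensions of base change agree -/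
theorem bcC_extS (K : CxN X) {L : CxN X'} (s : (pullN g').obj K ⟶ L) :
    bcC f g f' g' w (ext0 K) (extS g' s) ≫ (TriCat.mapExtendIso (EtCoh.push f') ComplexShape.embeddingUpNat L).hom =
      ((pullC g).mapIso (TriCat.mapExtendIso (EtCoh.push f) ComplexShape.embeddingUpNat K) ≪≫
        TriCat.mapExtendIso (EtCoh.pull g) ComplexShape.embeddingUpNat ((pushN f).obj K)).hom ≫
        extendMap (bcCN f g f' g' w K s) _ := by
  refine HomologicalComplex.hom_ext _ _ fun n => ?_
  show (EtCoh.baseChange0 f g f' g' w (extend.X K _) ≫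
      (EtCoh.push f').map ((TriCat.mapExtendXIso (EtCoh.pull g') K _).hom ≫ extend.mapX s _)) ≫
        (TriCat.mapExtendXIso (EtCoh.push f') L _).hom =
    ((EtCoh.pull g).map (TriCat.mapExtendXIso (EtCoh.push f) K _).hom ≫
      (TriCat.mapExtendXIso (EtCoh.pull g) ((pushN f).obj K) _).hom) ≫ extend.mapX (bcCN f g f' g' w K s) _
  generalize ComplexShape.embeddingUpNat.r n = o
  cases o with
  | none => exact (extend.isZero_X _ rfl).eq_of_tgt _ _
  | some i =>
    show (_ ≫ (EtCoh.push f').map (𝟙 _ ≫ s.f i)) ≫ 𝟙 _ = ((EtCoh.pull g).map (𝟙 _) ≫ 𝟙 _) ≫ (bcCN f g f' g' w K s).f i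
    rw [Category.comp_id, Category.comp_id, CategoryTheory.Functor.map_id]
    erw [Category.id_comp, Category.id_comp]
    rfl

variable [PreservesFiniteLimits (EtCoh.pull g)] [PreservesFiniteLimits (EtCoh.pull g')]
  [DCoh.HasRpushEt X f] [DCoh.HasRpushEt X' f'] [DCoh.HasRpushEt S' g]

/-- the derived base change morphism of a sheaf, on the complex of an injective resolution -/
theorem homology_single_iff (adj : EtBC.pullD g ⊣ DCoh.RpushEt S' g) (F : EtCoh.Ab X) (R : InjectiveResolution F)
    {L : CxN X'} [∀ j, Injective (L.X j)] (s : (pullN g').obj R.cocomplex ⟶ L) [QuasiIso s]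
    (q : ℕ) (P : MorphismProperty (EtCoh.Ab S')) [P.RespectsIso] :
    P ((DerivedCategory.homologyFunctor (EtCoh.Ab S') (q : ℤ)).map
        (EtBC.bcMap f g f' g' w adj (EtBC.single X F))) ↔
      P (HomologicalComplex.homologyMap (bcCN f g f' g' w R.cocomplex s) q) := by
  haveI : (R.cochainComplex).IsKInjective := CochainComplex.isKInjective_of_injective R.cochainComplex 0
  haveI : ∀ n, Injective ((ext0 L).X n) := fun n => by
    by_cases hn : 0 ≤ n
    · obtain ⟨k, rfl⟩ := Int.eq_ofNat_of_zero_le hn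
      exact Injective.of_iso (extendXIso L ComplexShape.embeddingUpNat (i := k) rfl).symm inferInstance
    · exact IsZero.injective (CochainComplex.isZero_of_isStrictlyGE _ 0 _ (by lia))
  haveI : (ext0 L).IsKInjective := CochainComplex.isKInjective_of_injective (ext0 L) 0
  haveI := isIso_Qh_quotient R.ι'
  let e : EtBC.single X F ≅ DerivedCategory.Qh.obj (qH R.cochainComplex) :=
    ((DerivedCategory.singleFunctorIsoCompQ _ 0).app F) ≪≫
      ((DerivedCategory.quotientCompQhIso _).app _).symm ≪≫
        @asIso _ _ _ _ _ (isIso_Qh_quotient R.ι')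
  haveI : QuasiIso (extS g' s) := by unfold extS; infer_instance
  refine (homology_bcMap_iff f g f' g' w adj R.cochainComplex e (extS g' s) q P).trans ?_
  let H := HomologicalComplex.homologyFunctor (EtCoh.Ab S') (ComplexShape.up ℤ) (q : ℤ)
  refine P.arrow_mk_iso_iff ?_
  refine H.mapArrow.mapIso (Arrow.isoMk ((pullC g).mapIso
      (TriCat.mapExtendIso (EtCoh.push f) ComplexShape.embeddingUpNat R.cocomplex) ≪≫
      TriCat.mapExtendIso (EtCoh.pull g) ComplexShape.embeddingUpNat ((pushN f).obj R.cocomplex))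
    (TriCat.mapExtendIso (EtCoh.push f') ComplexShape.embeddingUpNat L)
    (bcC_extS f g f' g' w R.cocomplex s).symm : Arrow.mk (bcC f g f' g' w R.cochainComplex (extS g' s)) ≅
      Arrow.mk (extendMap (bcCN f g f' g' w R.cocomplex s) _)) ≪≫ ?_
  exact Arrow.isoMk (extendHomologyIso _ _ rfl) (extendHomologyIso _ _ rfl)
    (extendHomologyIso_hom_naturality (bcCN f g f' g' w R.cocomplex s) _ rfl).symm

omit [PreservesFiniteLimits (EtCoh.pull g)] [DCoh.HasRpushEt X f] [DCoh.HasRpushEt X' f']
  [DCoh.HasRpushEt S' g] in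
/-- a comparison of the chosen resolutions -/
theorem exists_resComparison (F : EtCoh.Ab X) :
    ∃ φ : (pullN g').obj (injectiveResolution F).cocomplex ⟶
        (injectiveResolution ((EtCoh.pull g').obj F)).cocomplex,
      QuasiIso φ ∧ ∃ ψ : Tower.Hom ((tw F).map (EtCoh.pull g')) (tw ((EtCoh.pull g').obj F)),
        ((EtCoh.pull g').map (aug F) ≫ ψ.z 0 = aug ((EtCoh.pull g').obj F)) ∧ ∀ j, φ.f j = ψ.x j := by
  obtain ⟨ψ, hψ⟩ := exists_pullHom g' F
  let R := injectiveResolution F
  let R' := injectiveResolution ((EtCoh.pull g').obj F)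
  let φ : (pullN g').obj R.cocomplex ⟶ R'.cocomplex :=
    { f := fun j => ψ.x j
      comm' := fun i j hij => by
        obtain rfl : i + 1 = j := hij
        show ψ.x i ≫ R'.cocomplex.d i (i + 1) = (EtCoh.pull g').map (R.cocomplex.d i (i + 1)) ≫ ψ.x (i + 1)
        rw [← R'.cocomplex.toCycles_i i (i + 1), ← R.cocomplex.toCycles_i i (i + 1), Functor.map_comp, Category.assoc]
        erw [ψ.comm_i (i + 1)]
        exact (Category.assoc _ _ _).symm.trans ((congrArg (· ≫ _) (ψ.comm_p i).symm).trans (Category.assoc _ _ _)) }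
  let σ := HomologicalComplex.singleMapHomologicalComplex (EtCoh.pull g') (ComplexShape.up ℕ) 0
  have e : (pullN g').map R.ι ≫ φ = (σ.app F).hom ≫ R'.ι := by
    rw [← Iso.inv_comp_eq]
    apply HomologicalComplex.from_single_hom_ext
    show (σ.inv.app F).f 0 ≫ (EtCoh.pull g').map (R.ι.f 0) ≫ ψ.x 0 = R'.ι.f 0
    have h1 : (EtCoh.pull g').map (R.ι.f 0) ≫ ψ.x 0 = R'.ι.f 0 := by
      refine (congrArg (fun r => (EtCoh.pull g').map r ≫ ψ.x 0) (aug_i F).symm).trans ?_
      rw [Functor.map_comp, Category.assoc]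
      erw [ψ.comm_i 0]
      refine (Category.assoc _ _ _).symm.trans ?_
      rw [hψ]
      exact aug_i _
    rw [h1, HomologicalComplex.singleMapHomologicalComplex_inv_app_self]
    simp [HomologicalComplex.singleObjXSelf, HomologicalComplex.singleObjXIsoOfEq, eqToHom_map]
  haveI : QuasiIso ((pullN g').map R.ι ≫ φ) := by rw [e]; infer_instance
  exact ⟨φ, quasiIso_of_comp_left ((pullN g').map R.ι) φ, ψ, hψ, fun _ => rfl⟩

end Groth.Agent.EtBCD5
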