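import Groth.Agent.EtBCD5.USys
import Groth.Agent.BcLim5.Cont
import Groth.Agent.BcLim5.Pulled
import Mathlib.Algebra.Homology.ShortComplex.ExactFunctor

/-!
# Functors between categories of unital systems
-/

set_option autoImplicit false
set_option linter.style.haveILetI false
set_option linter.unusedSectionVars false
set_option backward.isDefEq.respectTransparency false
set_option backward.isDefEq.respectTransparency.types false

universe u

open CategoryTheory CategoryTheory.Limits AlgebraicGeometry Opposite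

attribute [-instance] CategoryTheory.catToReflQuiver

noncomputable section

namespace Groth.Agent.EtBCD5

open EtLim8 BcLim5

attribute [local instance] preservesFiniteLimits_pull

variable {ι : Type u} [Preorder ι] {Xs Ss Ts Ys : ιᵒᵖ ⥤ Scheme.{u}}

theorem isExact_stage {S : ShortComplex (USys Xs)} (hS : S.ShortExact) (i : ι) :
    (S.map (USys.stage Xs i)).ShortExact :=
  haveI := hS.mono_f
  haveI := hS.epi_g
  haveI : Mono (S.map (USys.stage Xs i)).f := USys.mono_app S.f i
  haveI : Epi (S.map (USys.stage Xs i)).g := USys.epi_app S.g i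
  { exact := hS.exact.map (USys.stage Xs i) }

/-- direct images of unital systems -/
def pushedObj (gN : Ts ⟶ Ss) (A : USys Ts) : USys Ss := ⟨pushedSys gN A.S, pushedSys_isUnital gN A.S A.unital⟩

/-- morphisms of the images -/
def pushedMap (gN : Ts ⟶ Ss) {A B : USys Ts} (η : A ⟶ B) : pushedObj gN A ⟶ pushedObj gN B := pushedHom gN η

theorem pushedMap_app (gN : Ts ⟶ Ss) {A B : USys Ts} (η : A ⟶ B) (i : ι) :
    (pushedMap gN η).app i = (EtCoh.push (gN.app (op i))).map (η.app i) := rfl

/-- direct images of unital systems -/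
def pushedF (gN : Ts ⟶ Ss) : USys Ts ⥤ USys Ss where
  obj A := pushedObj gN A
  map η := pushedMap gN η
  map_id A := USys.hom_ext fun i => (EtCoh.push (gN.app (op i))).map_id _
  map_comp η θ := USys.hom_ext fun i => (EtCoh.push (gN.app (op i))).map_comp (η.app i) (θ.app i)

instance (gN : Ts ⟶ Ss) : (pushedF gN).Additive where
  map_add {A B η θ} := by
    refine USys.hom_ext (A := pushedObj gN A) (B := pushedObj gN B) fun i => ?_
    exact (EtCoh.push (gN.app (op i))).map_add (f := η.app i) (g := θ.app i)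

/-- morphisms of systems have inverse images -/
def pulledHom (fN : Xs ⟶ Ss) {E E' : Sys Ss} (η : SysHom E E') : SysHom (pulledSys fN E) (pulledSys fN E') where
  app i := (EtCoh.pull (fN.app (op i))).map (η.app i)
  comm i j h := by
    have h1 : Compat (η.app i ≫ uP fN E' i) (pulledL fN E' h) (η.app i ≫ gamP fN E' h) :=
      Compat.comp_left (compat_pulledL fN E' h) (η.app i)
    have e : uP fN E i ≫ (EtCoh.push (fN.app (op i))).map ((EtCoh.pull (fN.app (op i))).map (η.app i)) =
        η.app i ≫ uP fN E' i := (EtCoh.pullPushAdj (fN.app (op i))).unit_naturality _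
    rw [← e, compat_map_left_iff] at h1
    refine Compat.unique_unit h1 ?_ rfl
    have h2 := Compat.push_map (compat_pulledL fN E h) ((EtCoh.pull (fN.app (op j))).map (η.app j))
    have e2 : η.app i ≫ gamP fN E' h =
        gamP fN E h ≫ (EtCoh.push (tr Xs h ≫ fN.app (op i))).map ((EtCoh.pull (fN.app (op j))).map (η.app j)) := by
      have e3 : (EtCoh.push (fN.app (op j))).map ((EtCoh.pull (fN.app (op j))).map (η.app j)) =
          (EtCoh.push (fN.app (op j))).map ((EtCoh.pull (fN.app (op j))).map (η.app j)) := rfl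
      have e4 : η.app j ≫ uP fN E' j =
          uP fN E j ≫ (EtCoh.push (fN.app (op j))).map ((EtCoh.pull (fN.app (op j))).map (η.app j)) :=
        ((EtCoh.pullPushAdj (fN.app (op j))).unit_naturality _).symm
      rw [gamP, gamP, compL, compL, ← Category.assoc (η.app i), η.comm h, Category.assoc, ← Functor.map_comp_assoc,
        e4, Functor.map_comp, Category.assoc, Category.assoc, Category.assoc]
      refine congrArg (_ ≫ ·) (congrArg (_ ≫ ·) ?_)
      rw [Iso.eq_inv_comp, ← Category.assoc, Iso.comp_inv_eq]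
      exact (pushCmp_natural _ _ _ _ _).symm
    rw [e2]
    exact h2

/-- inverse images of unital systems -/
def pulledObj (fN : Xs ⟶ Ss) (A : USys Ss) : USys Xs := ⟨pulledSys fN A.S, pulledSys_isUnital fN A.S A.unital⟩

/-- morphisms of the images -/
def pulledMap (fN : Xs ⟶ Ss) {A B : USys Ss} (η : A ⟶ B) : pulledObj fN A ⟶ pulledObj fN B := pulledHom fN η

theorem pulledMap_app (fN : Xs ⟶ Ss) {A B : USys Ss} (η : A ⟶ B) (i : ι) :
    (pulledMap fN η).app i = (EtCoh.pull (fN.app (op i))).map (η.app i) := rfl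

/-- inverse images of unital systems -/
def pulledF (fN : Xs ⟶ Ss) : USys Ss ⥤ USys Xs where
  obj A := pulledObj fN A
  map η := pulledMap fN η
  map_id A := USys.hom_ext fun i => (EtCoh.pull (fN.app (op i))).map_id _
  map_comp η θ := USys.hom_ext fun i => (EtCoh.pull (fN.app (op i))).map_comp (η.app i) (θ.app i)

instance (fN : Xs ⟶ Ss) : (pulledF fN).Additive where
  map_add {A B η θ} := by
    refine USys.hom_ext (A := pulledObj fN A) (B := pulledObj fN B) fun i => ?_
    exact (EtCoh.pull (fN.app (op i))).map_add (f := η.app i) (g := θ.app i)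

section bc

variable {X S X' S' : Scheme.{u}} {f : X ⟶ S} {g : S' ⟶ S} {f' : X' ⟶ S'} {g' : X' ⟶ X}

theorem pushL_unit (w : g' ≫ f = f' ≫ g) (F : EtCoh.Ab X) :
    pushL w ((EtCoh.pullPushAdj g').unit.app F) =
      (EtCoh.pullPushAdj g).unit.app ((EtCoh.push f).obj F) ≫
        (EtCoh.push g).map (EtCoh.baseChange0 f g f' g' w F) := by
  have e : ((EtCoh.pullPushAdj g').homEquiv _ _).symm ((EtCoh.pullPushAdj g').unit.app F) = 𝟙 _ := by
    rw [Equiv.symm_apply_eq]
    exact ((EtCoh.pullPushAdj g').homEquiv_id F).symm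
  rw [pushL, e, CategoryTheory.Functor.map_id, Category.comp_id]
  exact Adjunction.homEquiv_unit _ _ _ _

theorem compat_pushL {A B C A' B' C' : Scheme.{u}} {p : A' ⟶ A} {q : B' ⟶ B} {r : C' ⟶ C}
    {t₁ : B ⟶ A} {t₂ : C ⟶ B} {t₃ : C ⟶ A} {t₁' : B' ⟶ A'} {t₂' : C' ⟶ B'} {t₃' : C' ⟶ A'}
    (w₁ : t₁' ≫ p = q ≫ t₁) (w₂ : t₂' ≫ q = r ≫ t₂) (ht' : t₂' ≫ t₁' = t₃') (w₃ : t₃' ≫ p = r ≫ t₃)
    {F : EtCoh.Ab A'} {G : EtCoh.Ab B'} {H : EtCoh.Ab C'} {l₁ : F ⟶ (EtCoh.push t₁').obj G}
    {l₂ : G ⟶ (EtCoh.push t₂').obj H} {l₃ : F ⟶ (EtCoh.push t₃').obj H} (h : Compat l₁ l₂ l₃) :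
    Compat (pushL w₁ l₁) (pushL w₂ l₂) (pushL w₃ l₃) := by
  intro V W W' a w b w' e we hbe s
  rw [res_pushL w₂ l₂ b w' (sqMap w₂ b w') (sqMap_w _ b w') (sqMap_fst _ b w'),
    res_pushL w₁ l₁ a w (sqMap w₁ a w) (sqMap_w _ a w) (sqMap_fst _ a w),
    res_pushL w₃ l₃ e we (sqMap w₃ e we) (sqMap_w _ e we) (sqMap_fst _ e we)]
  refine h _ _ _ _ _ _ _ _ _ (bc_hom_ext ?_ ?_) s
  · rw [Category.assoc, sqMap_fst, sqMap_fst, ← Category.assoc, sqMap_fst, Category.assoc, hbe]
  · rw [Category.assoc, sqMap_w, sqMap_w, ← Category.assoc, sqMap_w, Category.assoc, ht']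

end bc

variable (fN : Xs ⟶ Ss) (gN : Ts ⟶ Ss) (hN : Ys ⟶ Xs) (eN : Ys ⟶ Ts)
  (sq : ∀ i : ι, eN.app (op i) ≫ gN.app (op i) = hN.app (op i) ≫ fN.app (op i))

/-- base change in degree zero at the stages -/
def bc0Hom (S : Sys Ts) : SysHom (pulledSys fN (pushedSys gN S)) (pushedSys hN (pulledSys eN S)) where
  app i := EtCoh.baseChange0 (gN.app (op i)) (fN.app (op i)) (hN.app (op i)) (eN.app (op i)) (sq i) (S.F i)
  comm i j hij := by
    have w'' : (tr Ys hij ≫ eN.app (op i)) ≫ gN.app (op i) = hN.app (op j) ≫ tr Xs hij ≫ fN.app (op i) := by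
      rw [Category.assoc, sq i, ← Category.assoc, ← Category.assoc, stage_w hN hij]
    let γ := pushL w'' (gamP eN S hij)
    refine Compat.unique_unit (t₁ := fN.app (op i)) (t₂ := tr Xs hij) (γ := γ) ?_ ?_ rfl
    · rw [← compat_map_left_iff]
      change Compat ((EtCoh.pullPushAdj (fN.app (op i))).unit.app _ ≫ _) _ _
      have c1 : Compat (pushL (sq i) (uP eN S i)) ((pushedSys hN (pulledSys eN S)).l hij) γ :=
        compat_pushL (sq i) (stage_w hN hij) rfl w'' (compat_pulledL eN S hij)
      rw [show uP eN S i = (EtCoh.pullPushAdj (eN.app (op i))).unit.app (S.F i) from rfl,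
        pushL_unit (sq i) (S.F i)] at c1
      exact c1
    · have h1 := Compat.push_map (compat_pulledL fN (pushedSys gN S) hij)
        (EtCoh.baseChange0 (gN.app (op j)) (fN.app (op j)) (hN.app (op j)) (eN.app (op j)) (sq j) (S.F j))
      have h2 : Compat ((pushedSys gN S).l hij) (pushL (sq j) (uP eN S j)) γ :=
        compat_pushL (stage_w gN hij) (sq j) (pulled_w eN hij) w'' (compat_gamP eN S hij)
      have h3 := Compat.push_map (compat_gamP fN (pushedSys gN S) hij)
        (EtCoh.baseChange0 (gN.app (op j)) (fN.app (op j)) (hN.app (op j)) (eN.app (op j)) (sq j) (S.F j))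
      have e := pushL_unit (sq j) (S.F j)
      rw [show uP eN S j = (EtCoh.pullPushAdj (eN.app (op j))).unit.app (S.F j) from rfl, e] at h2
      have e2 := Compat.unique (t₁ := tr Ss hij) (t₂ := fN.app (op j)) (pulled_w fN hij) h2 h3
      rw [e2]
      exact h1

/-- base change of a unital system -/
def bcApp (A : USys Ts) : pulledObj fN (pushedObj gN A) ⟶ pushedObj hN (pulledObj eN A) :=
  bc0Hom fN gN hN eN sq A.S

theorem bcApp_app (A : USys Ts) (i : ι) : (bcApp fN gN hN eN sq A).app i =
    EtCoh.baseChange0 (gN.app (op i)) (fN.app (op i)) (hN.app (op i)) (eN.app (op i)) (sq i) (A.S.F i) := rfl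

/-- base change of unital systems -/
def bcF : pushedF gN ⋙ pulledF fN ⟶ pulledF eN ⋙ pushedF hN where
  app A := bcApp fN gN hN eN sq A
  naturality A B η := USys.hom_ext fun i => BcQCalc.baseChange0_naturality _ _ _ _ (sq i) (η.app i)

section colim

variable [IsDirected ι (· ≤ ·)] [Nonempty ι] (c : Cone Xs)

/-- the diagram on the limit -/
def diagF : USys Xs ⥤ ι ⥤ EtCoh.Ab c.pt where
  obj A := (A.S.diag c A.unital).G
  map {A B} η := SysHom.diagMap η A.unital B.unital
  map_id A := by
    refine NatTrans.ext (funext fun i => ?_)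
    exact (EtCoh.pull (pr c i)).map_id _
  map_comp η θ := by
    refine NatTrans.ext (funext fun i => ?_)
    exact (EtCoh.pull (pr c i)).map_comp _ _

instance : (diagF c).Additive where
  map_add := NatTrans.ext (funext fun i => (EtCoh.pull (pr c i)).map_add)

theorem diagF_shortExact (S : ShortComplex (USys Xs)) (hS : S.ShortExact) : (S.map (diagF c)).ShortExact := by
  have h : ∀ i, ((S.map (USys.stage Xs i)).map (EtCoh.pull (pr c i))).ShortExact := fun i =>
    (isExact_stage hS i).map_of_exact _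
  haveI : ∀ i, Mono ((S.map (diagF c)).f.app i) := fun i => (h i).mono_f
  haveI : ∀ i, Epi ((S.map (diagF c)).g.app i) := fun i => (h i).epi_g
  haveI := NatTrans.mono_of_mono_app (S.map (diagF c)).f
  haveI := NatTrans.epi_of_epi_app (S.map (diagF c)).g
  refine { exact := ?_ }
  rw [ShortComplex.exact_iff_isZero_homology]
  exact Functor.isZero _ fun i => ((ShortComplex.exact_iff_isZero_homology _).1 (h i).exact).of_iso
    ((S.map (diagF c)).mapHomologyIso ((evaluation ι (EtCoh.Ab c.pt)).obj i)).symm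

instance : (diagF c).PreservesHomology :=
  ((diagF c).exact_tfae.out 0 2).1 (diagF_shortExact c)

/-- the colimit on the limit -/
def colimF : USys Xs ⥤ EtCoh.Ab c.pt := diagF c ⋙ colim

instance : (colimF c).Additive := inferInstanceAs ((diagF c ⋙ colim).Additive)

theorem colimF_shortExact (S : ShortComplex (USys Xs)) (hS : S.ShortExact) : (S.map (colimF c)).ShortExact :=
  (diagF_shortExact c S hS).map_of_exact colim

instance : (colimF c).PreservesHomology :=
  ((colimF c).exact_tfae.out 0 2).1 (colimF_shortExact c)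

theorem colimF_map {A B : USys Xs} (η : A ⟶ B) :
    (colimF c).map η = colimMap (SysHom.diagMap η A.unital B.unital) := rfl

end colim

end Groth.Agent.EtBCD5
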