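import Groth.Agent.EtLim8.Coinduced
import Groth.Agent.EtLim8.Unitalize
import Mathlib.CategoryTheory.Abelian.Basic
import Mathlib.Algebra.Homology.ShortComplex.PreservesHomology

/-!
# The abelian category of unital systems of sheaves
-/

set_option autoImplicit false
set_option linter.style.haveILetI false
set_option linter.unusedSectionVars false
set_option backward.isDefEq.respectTransparency false
set_option backward.isDefEq.respectTransparency.types false

universe u

open CategoryTheory CategoryTheory.Limits AlgebraicGeometry Opposite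

attribute [-instance] CategoryTheory.catToReflQuiver

noncomputable section

namespace Groth.Agent.EtBCD5

open EtLim8

variable {ι : Type u} [Preorder ι] (Xs : ιᵒᵖ ⥤ Scheme.{u})

/-- unital systems of sheaves -/
structure USys where
  /-- the system -/
  S : Sys Xs
  unital : S.IsUnital

variable {Xs}

namespace USys

/-- morphisms of unital systems -/
abbrev Hom (A B : USys Xs) := SysHom A.S B.S

theorem push_map_id {i j : ι} (h : i ≤ j) (F : EtCoh.Ab (Xs.obj (op j))) :
    (EtCoh.push (tr Xs h)).map (𝟙 F) = 𝟙 _ := CategoryTheory.Functor.map_id _ _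

instance category : Category.{u + 1} (USys Xs) where
  Hom A B := Hom A B
  id A := ⟨fun i => 𝟙 _, fun i j h => by rw [push_map_id, Category.id_comp, Category.comp_id]⟩
  comp {A B C} η θ := ⟨fun i => η.app i ≫ θ.app i, fun i j h => by
    rw [Category.assoc, θ.comm h, ← Category.assoc, η.comm h, Category.assoc, Functor.map_comp]⟩
  id_comp η := SysHom.ext (funext fun i => Category.id_comp _)
  comp_id η := SysHom.ext (funext fun i => Category.comp_id _)
  assoc η θ ρ := SysHom.ext (funext fun i => Category.assoc _ _ _)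

@[ext]
theorem hom_ext {A B : USys Xs} {η θ : A ⟶ B} (h : ∀ i, η.app i = θ.app i) : η = θ := SysHom.ext (funext h)

/-- a morphism from stagewise data -/
def mkHom {A B : USys Xs} (app : ∀ i, A.S.F i ⟶ B.S.F i)
    (comm : ∀ ⦃i j : ι⦄ (h : i ≤ j), app i ≫ B.S.l h = A.S.l h ≫ (EtCoh.push (tr Xs h)).map (app j)) : A ⟶ B :=
  ⟨app, comm⟩

@[simp] theorem mkHom_app {A B : USys Xs} (app : ∀ i, A.S.F i ⟶ B.S.F i) (comm) (i : ι) :
    (mkHom (A := A) (B := B) app comm).app i = app i := rfl

@[simp] theorem id_app (A : USys Xs) (i : ι) : SysHom.app (𝟙 A) i = 𝟙 _ := rfl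

@[simp] theorem comp_app {A B C : USys Xs} (η : A ⟶ B) (θ : B ⟶ C) (i : ι) :
    SysHom.app (η ≫ θ) i = η.app i ≫ θ.app i := rfl

instance {A B : USys Xs} : Zero (A ⟶ B) :=
  ⟨mkHom (fun _ => 0) fun i j h => by rw [zero_comp, Functor.map_zero, comp_zero]⟩

instance {A B : USys Xs} : Add (A ⟶ B) :=
  ⟨fun η θ => mkHom (fun i => η.app i + θ.app i) fun i j h => by
    rw [Preadditive.add_comp, Functor.map_add, Preadditive.comp_add, η.comm h, θ.comm h]⟩

instance {A B : USys Xs} : Neg (A ⟶ B) :=
  ⟨fun η => mkHom (fun i => -η.app i) fun i j h => by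
    rw [Preadditive.neg_comp, Functor.map_neg, Preadditive.comp_neg, η.comm h]⟩

instance {A B : USys Xs} : Sub (A ⟶ B) :=
  ⟨fun η θ => mkHom (fun i => η.app i - θ.app i) fun i j h => by
    rw [Preadditive.sub_comp, Functor.map_sub, Preadditive.comp_sub, η.comm h, θ.comm h]⟩

instance {A B : USys Xs} : SMul ℕ (A ⟶ B) :=
  ⟨fun n η => mkHom (fun i => n • η.app i) fun i j h => by
    rw [Preadditive.nsmul_comp, Functor.map_nsmul, Preadditive.comp_nsmul, η.comm h]⟩

instance {A B : USys Xs} : SMul ℤ (A ⟶ B) :=
  ⟨fun n η => mkHom (fun i => n • η.app i) fun i j h => by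
    rw [Preadditive.zsmul_comp, Functor.map_zsmul, Preadditive.comp_zsmul, η.comm h]⟩

instance {A B : USys Xs} : AddCommGroup (A ⟶ B) :=
  Function.Injective.addCommGroup (fun (η : A ⟶ B) (i : ι) => η.app i) (fun _ _ h => hom_ext (congrFun h))
    rfl (fun _ _ => rfl) (fun _ => rfl) (fun _ _ => rfl) (fun _ _ => rfl) (fun _ _ => rfl)

instance : Preadditive (USys Xs) where
  add_comp A B C η θ ρ := hom_ext fun i => Preadditive.add_comp _ _ _ _ _ _
  comp_add A B C η θ ρ := hom_ext fun i => Preadditive.comp_add _ _ _ _ _ _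

@[simp] theorem zero_app (A B : USys Xs) (i : ι) : SysHom.app (0 : A ⟶ B) i = 0 := rfl

variable (Xs) in
/-- the stage functor -/
@[simps]
def stage (i : ι) : USys Xs ⥤ EtCoh.Ab (Xs.obj (op i)) where
  obj A := A.S.F i
  map η := η.app i

instance (i : ι) : (stage Xs i).Additive where map_add := rfl

/-- a system from stagewise data, unitality stated through `pushId` -/
def mk' (F : ∀ i, EtCoh.Ab (Xs.obj (op i))) (l : ∀ ⦃i j : ι⦄ (h : i ≤ j), F i ⟶ (EtCoh.push (tr Xs h)).obj (F j))
    (comp : ∀ ⦃i j k : ι⦄ (hij : i ≤ j) (hjk : j ≤ k),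
      l hij ≫ (EtCoh.push (tr Xs hij)).map (l hjk) =
        l (hij.trans hjk) ≫ (pushCmp (tr Xs hij) (tr Xs hjk) (tr Xs (hij.trans hjk)) (tr_comp Xs hij hjk) (F k)).hom)
    (unit : ∀ i, l (le_refl i) = pushId i (F i)) : USys Xs where
  S := { F := F, l := l, comp := fun i j k hij hjk => (compat_iff (tr_comp Xs hij hjk) _ _ _).2 (comp hij hjk) }
  unital := (isUnital_iff _).2 unit

theorem compEq (A : USys Xs) {i j k : ι} (hij : i ≤ j) (hjk : j ≤ k) :
    A.S.l hij ≫ (EtCoh.push (tr Xs hij)).map (A.S.l hjk) =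
      A.S.l (hij.trans hjk) ≫
        (pushCmp (tr Xs hij) (tr Xs hjk) (tr Xs (hij.trans hjk)) (tr_comp Xs hij hjk) (A.S.F k)).hom :=
  (compat_iff (tr_comp Xs hij hjk) _ _ _).1 (A.S.comp hij hjk)

theorem unitEq (A : USys Xs) (i : ι) : A.S.l (le_refl i) = pushId i (A.S.F i) := (isUnital_iff _).1 A.unital i

section zero

variable (Xs) in
/-- the zero system -/
def zeroObj : USys Xs :=
  haveI : ∀ i, HasZeroObject (EtCoh.Ab (Xs.obj (op i))) := fun i => inferInstance
  open ZeroObject in
  mk' (fun i => 0) (fun i j h => 0) (fun i j k hij hjk => zero_comp.trans zero_comp.symm)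
    (fun i => (isZero_zero _).eq_of_src _ _)

open ZeroObject in
instance : HasZeroObject (USys Xs) :=
  ⟨zeroObj Xs, { unique_to := fun A => ⟨⟨⟨0⟩, fun η => hom_ext fun i => (isZero_zero _).eq_of_src _ _⟩⟩
                 unique_from := fun A => ⟨⟨⟨0⟩, fun η => hom_ext fun i => (isZero_zero _).eq_of_tgt _ _⟩⟩ }⟩

end zero

section prod

variable (A B : USys Xs)

/-- the sum of two systems -/
def sum : USys Xs :=
  mk' (fun i => A.S.F i ⊞ B.S.F i)
    (fun i j h => biprod.desc (A.S.l h ≫ (EtCoh.push (tr Xs h)).map biprod.inl)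
      (B.S.l h ≫ (EtCoh.push (tr Xs h)).map biprod.inr))
    (fun i j k hij hjk => by
      refine biprod.hom_ext' _ _ ?_ ?_
      · simp only [biprod.inl_desc_assoc, Category.assoc, ← Functor.map_comp, biprod.inl_desc]
        rw [Functor.map_comp, ← Category.assoc, compEq A hij hjk, Category.assoc, pushCmp_natural]
      · simp only [biprod.inr_desc_assoc, Category.assoc, ← Functor.map_comp, biprod.inr_desc]
        rw [Functor.map_comp, ← Category.assoc, compEq B hij hjk, Category.assoc, pushCmp_natural])
    (fun i => by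
      refine biprod.hom_ext' _ _ ?_ ?_
      · rw [biprod.inl_desc, unitEq, pushId_natural]
      · rw [biprod.inr_desc, unitEq, pushId_natural])

/-- the bicone of the sum -/
def sumBicone : BinaryBicone A B where
  pt := sum A B
  fst := mkHom (fun i => biprod.fst) fun i j h => by
    show biprod.fst ≫ A.S.l h = biprod.desc _ _ ≫ _
    refine biprod.hom_ext' _ _ ?_ ?_ <;> simp [← Functor.map_comp]
  snd := mkHom (fun i => biprod.snd) fun i j h => by
    show biprod.snd ≫ B.S.l h = biprod.desc _ _ ≫ _
    refine biprod.hom_ext' _ _ ?_ ?_ <;> simp [← Functor.map_comp]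
  inl := mkHom (fun i => biprod.inl) fun i j h => biprod.inl_desc _ _
  inr := mkHom (fun i => biprod.inr) fun i j h => biprod.inr_desc _ _
  inl_fst := hom_ext fun i => biprod.inl_fst
  inl_snd := hom_ext fun i => biprod.inl_snd
  inr_fst := hom_ext fun i => biprod.inr_fst
  inr_snd := hom_ext fun i => biprod.inr_snd

instance : HasBinaryBiproducts (USys Xs) :=
  ⟨fun A B => HasBinaryBiproduct.mk ⟨sumBicone A B,
    isBinaryBilimitOfTotal (sumBicone A B) (hom_ext fun i => biprod.total)⟩⟩

instance : HasTerminal (USys Xs) := HasZeroObject.hasTerminal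

instance : HasFiniteProducts (USys Xs) := hasFiniteProducts_of_has_binary_and_terminal

end prod

section ker

variable {A B : USys Xs} (η : A ⟶ B)

/-- transition maps of the kernel -/
def kerL ⦃i j : ι⦄ (h : i ≤ j) : kernel (η.app i) ⟶ (EtCoh.push (tr Xs h)).obj (kernel (η.app j)) :=
  kernel.lift ((EtCoh.push (tr Xs h)).map (η.app j)) (kernel.ι (η.app i) ≫ A.S.l h)
    (by rw [Category.assoc, ← η.comm h, kernel.condition_assoc, zero_comp]) ≫
    (PreservesKernel.iso (EtCoh.push (tr Xs h)) (η.app j)).inv

theorem kerL_ι ⦃i j : ι⦄ (h : i ≤ j) :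
    kerL η h ≫ (EtCoh.push (tr Xs h)).map (kernel.ι (η.app j)) = kernel.ι (η.app i) ≫ A.S.l h := by
  rw [kerL, Category.assoc]
  erw [PreservesKernel.iso_inv_ι, kernel.lift_ι]

/-- the kernel -/
def ker : USys Xs :=
  mk' (fun i => kernel (η.app i)) (kerL η)
    (fun i j k hij hjk => by
      haveI : Mono ((EtCoh.push (tr Xs hij)).map ((EtCoh.push (tr Xs hjk)).map (kernel.ι (η.app k)))) :=
        @Functor.map_mono _ _ _ _ (EtCoh.push (tr Xs hij)) _ _ _ _ (@Functor.map_mono _ _ _ _ (EtCoh.push (tr Xs hjk)) _ _ _ _ inferInstance)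
      rw [← cancel_mono ((EtCoh.push (tr Xs hij)).map ((EtCoh.push (tr Xs hjk)).map (kernel.ι (η.app k)))),
        Category.assoc, Category.assoc, ← Functor.map_comp, kerL_ι, Functor.map_comp, ← Category.assoc, kerL_ι,
        Category.assoc, compEq A, ← pushCmp_natural, ← Category.assoc, ← kerL_ι η (hij.trans hjk), Category.assoc])
    (fun i => by
      rw [← cancel_mono ((EtCoh.push (tr Xs (le_refl i))).map (kernel.ι (η.app i))), kerL_ι, unitEq, pushId_natural])

/-- the inclusion of the kernel -/
def kerι : ker η ⟶ A := mkHom (fun i => kernel.ι (η.app i)) fun i j h => (kerL_ι η h).symm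

theorem kerι_condition : kerι η ≫ η = 0 := hom_ext fun i => kernel.condition (η.app i)

/-- lift to the kernel -/
def kerLift {C : USys Xs} (θ : C ⟶ A) (hθ : θ ≫ η = 0) : C ⟶ ker η :=
  mkHom (fun i => kernel.lift (η.app i) (θ.app i) (congrArg (fun r => SysHom.app r i) hθ)) fun i j h => by
    show _ ≫ kerL η h = _
    rw [← cancel_mono ((EtCoh.push (tr Xs h)).map (kernel.ι (η.app j))), Category.assoc, kerL_ι,
      kernel.lift_ι_assoc, Category.assoc, ← Functor.map_comp, kernel.lift_ι]
    exact θ.comm h

/-- the kernel is a kernel -/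
def kerIsLimit : IsLimit (KernelFork.ofι (kerι η) (kerι_condition η)) :=
  KernelFork.IsLimit.ofι _ _ (fun θ hθ => kerLift η θ hθ) (fun θ hθ => hom_ext fun i => kernel.lift_ι _ _ _)
    (fun θ hθ m hm => hom_ext fun i => by
      rw [← cancel_mono (kernel.ι (η.app i))]
      exact (congrArg (fun r => SysHom.app r i) hm).trans (kernel.lift_ι _ _ _).symm)

instance : HasKernels (USys Xs) := ⟨fun η => ⟨⟨⟨_, kerIsLimit η⟩⟩⟩⟩

/-- the cokernel -/
def coker : USys Xs where
  S := SysHom.coker η
  unital := SysHom.coker_isUnital η B.unital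

/-- the projection to the cokernel -/
def cokπ : B ⟶ coker η := SysHom.cokerπ η

theorem cokπ_condition : η ≫ cokπ η = 0 := hom_ext fun i => cokernel.condition (η.app i)

/-- descent from the cokernel -/
def cokDesc {C : USys Xs} (θ : B ⟶ C) (hθ : η ≫ θ = 0) : coker η ⟶ C :=
  mkHom (fun i => cokernel.desc (η.app i) (θ.app i) (congrArg (fun r => SysHom.app r i) hθ)) fun i j h => by
    show _ = cokernel.desc (η.app i) _ _ ≫ _
    refine coequalizer.hom_ext ?_
    rw [cokernel.π_desc_assoc, cokernel.π_desc_assoc, Category.assoc, ← Functor.map_comp, cokernel.π_desc]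
    exact θ.comm h

/-- the cokernel is a cokernel -/
def cokIsColimit : IsColimit (CokernelCofork.ofπ (cokπ η) (cokπ_condition η)) :=
  CokernelCofork.IsColimit.ofπ _ _ (fun θ hθ => cokDesc η θ hθ) (fun θ hθ => hom_ext fun i => cokernel.π_desc _ _ _)
    (fun θ hθ m hm => hom_ext fun i => by
      rw [← cancel_epi (cokernel.π (η.app i))]
      exact (congrArg (fun r => SysHom.app r i) hm).trans (cokernel.π_desc _ _ _).symm)

instance : HasCokernels (USys Xs) := ⟨fun η => ⟨⟨⟨_, cokIsColimit η⟩⟩⟩⟩

theorem mono_app [Mono η] (i : ι) : Mono (η.app i) :=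
  Preadditive.mono_of_kernel_zero (congrArg (fun r => SysHom.app r i)
    (zero_of_comp_mono η (kerι_condition η) : kerι η = 0))

theorem epi_app [Epi η] (i : ι) : Epi (η.app i) :=
  Preadditive.epi_of_cokernel_zero (congrArg (fun r => SysHom.app r i)
    (zero_of_epi_comp η (cokπ_condition η) : cokπ η = 0))

/-- monomorphisms are normal -/
def normalMono [Mono η] : NormalMono η where
  Z := coker η
  g := cokπ η
  w := cokπ_condition η
  isLimit :=
    haveI : ∀ i, Mono (η.app i) := mono_app η
    KernelFork.IsLimit.ofι _ _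
      (fun θ hθ => mkHom (fun i => (Abelian.monoIsKernelOfCokernel _ (cokernelIsCokernel (η.app i))).lift
          (KernelFork.ofι (θ.app i) (congrArg (fun r => SysHom.app r i) hθ))) fun i j h => by
        haveI : Mono ((EtCoh.push (tr Xs h)).map (η.app j)) := inferInstance
        rw [← cancel_mono ((EtCoh.push (tr Xs h)).map (η.app j)), Category.assoc, Category.assoc, ← η.comm h,
          ← Functor.map_comp, ← Category.assoc]
        erw [(Abelian.monoIsKernelOfCokernel _ (cokernelIsCokernel (η.app i))).fac _ WalkingParallelPair.zero,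
          (Abelian.monoIsKernelOfCokernel _ (cokernelIsCokernel (η.app j))).fac _ WalkingParallelPair.zero]
        exact θ.comm h)
      (fun θ hθ => hom_ext fun i =>
        (Abelian.monoIsKernelOfCokernel _ (cokernelIsCokernel (η.app i))).fac _ WalkingParallelPair.zero)
      (fun θ hθ m hm => hom_ext fun i => by
        rw [← cancel_mono (η.app i)]
        refine (congrArg (fun r => SysHom.app r i) hm).trans ?_
        exact ((Abelian.monoIsKernelOfCokernel _ (cokernelIsCokernel (η.app i))).fac
          (KernelFork.ofι (θ.app i) (congrArg (fun r => SysHom.app r i) hθ)) WalkingParallelPair.zero).symm)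

/-- epimorphisms are normal -/
def normalEpi [Epi η] : NormalEpi η where
  W := ker η
  g := kerι η
  w := kerι_condition η
  isColimit :=
    haveI : ∀ i, Epi (η.app i) := epi_app η
    CokernelCofork.IsColimit.ofπ _ _
      (fun θ hθ => mkHom (fun i => (Abelian.epiIsCokernelOfKernel _ (kernelIsKernel (η.app i))).desc
          (CokernelCofork.ofπ (θ.app i) (congrArg (fun r => SysHom.app r i) hθ))) fun i j h => by
        rw [← cancel_epi (η.app i)]
        conv_rhs => rw [← Category.assoc, η.comm h, Category.assoc, ← Functor.map_comp]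
        rw [← Category.assoc]
        erw [(Abelian.epiIsCokernelOfKernel _ (kernelIsKernel (η.app i))).fac _ WalkingParallelPair.one,
          (Abelian.epiIsCokernelOfKernel _ (kernelIsKernel (η.app j))).fac _ WalkingParallelPair.one]
        exact θ.comm h)
      (fun θ hθ => hom_ext fun i =>
        (Abelian.epiIsCokernelOfKernel _ (kernelIsKernel (η.app i))).fac _ WalkingParallelPair.one)
      (fun θ hθ m hm => hom_ext fun i => by
        rw [← cancel_epi (η.app i)]
        refine (congrArg (fun r => SysHom.app r i) hm).trans ?_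
        exact ((Abelian.epiIsCokernelOfKernel _ (kernelIsKernel (η.app i))).fac
          (CokernelCofork.ofπ (θ.app i) (congrArg (fun r => SysHom.app r i) hθ)) WalkingParallelPair.one).symm)

end ker

instance abelian : Abelian (USys Xs) where
  normalMonoOfMono η := ⟨normalMono η⟩
  normalEpiOfEpi η := ⟨normalEpi η⟩

instance (i : ι) : (stage Xs i).PreservesHomology where
  preservesKernels _ _ η :=
    preservesLimit_of_preserves_limit_cone (kerIsLimit η)
      ((KernelFork.isLimitMapConeEquiv _ (stage Xs i)).symm (kernelIsKernel (η.app i)))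
  preservesCokernels _ _ η :=
    preservesColimit_of_preserves_colimit_cocone (cokIsColimit η)
      ((CokernelCofork.isColimitMapCoconeEquiv _ (stage Xs i)).symm (cokernelIsCokernel (η.app i)))

theorem isIso_iff {A B : USys Xs} (η : A ⟶ B) : IsIso η ↔ ∀ i, IsIso (η.app i) := by
  refine ⟨fun _ i => inferInstanceAs (IsIso ((stage Xs i).map η)), fun h => ?_⟩
  haveI := h
  refine ⟨mkHom (fun i => inv (η.app i)) (fun i j hij => ?_), hom_ext fun i => IsIso.hom_inv_id _,
    hom_ext fun i => IsIso.inv_hom_id _⟩
  rw [IsIso.inv_comp_eq, ← Category.assoc, η.comm hij, Category.assoc, ← Functor.map_comp, IsIso.hom_inv_id,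
    push_map_id, Category.comp_id]

section coind

variable [IsDirected ι (· ≤ ·)] [Nonempty ι]

/-- enough systems with injective stages -/
theorem exists_mono_injective (A : USys Xs) :
    ∃ (B : USys Xs) (η : A ⟶ B), (∀ i, Injective (B.S.F i)) ∧ Mono η := by
  refine ⟨⟨coind A.S, coind_isUnital _⟩, toCoind A.S, fun i => injective_coind _ i, ⟨fun θ θ' h => hom_ext fun i => ?_⟩⟩
  haveI := mono_toCoind A.S A.unital i
  exact (cancel_mono ((toCoind A.S).app i)).1 (congrArg (fun r => SysHom.app r i) h)

end coind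

end USys

end Groth.Agent.EtBCD5
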